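import Cfsg.Agent.H86.ClassSizes.Basic
import Cfsg.Agent.S0205
import Cfsg.Agent.S0016
import Cfsg.Prelude.Def_Transfer
import Cfsg.Agent.Fusion.PComplement

/-!
# Abelian subgroups containing the centralisers of their elements
-/

set_option autoImplicit false
set_option linter.style.haveILetI false
set_option linter.unusedSectionVars false

namespace Cfsg.Agent.H86.ClassSizes

open Subgroup
open Cfsg.Agent.Hall.TwoSizes (IsQ)

universe u

variable {G : Type u} [Group G] [Finite G]

/-- An abelian Hall subgroup that is the centraliser of each of its non-identity elements. -/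
structure CC (H : Subgroup G) : Prop where
  comm : ∀ x ∈ H, ∀ y ∈ H, Commute x y
  cz_eq : ∀ h ∈ H, h ≠ 1 → cz h = H
  cop : (Nat.card ↥H).Coprime H.index

namespace CC

variable {H : Subgroup G} (hH : CC H)
include hH

theorem isMulCommutative : IsMulCommutative ↥H :=
  ⟨⟨fun x y => Subtype.ext (hH.comm x x.2 y y.2)⟩⟩

theorem mem_of_commute {h g : G} (hh : h ∈ H) (h1 : h ≠ 1) (hc : Commute g h) : g ∈ H :=
  hH.cz_eq h hh h1 ▸ mem_cz.2 hc

theorem mem_normalizer_of_conj {h g : G} (hh : h ∈ H) (h1 : h ≠ 1) (hg : g * h * g⁻¹ ∈ H) :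
    g ∈ normalizer (H : Set G) := by
  have key : ∀ x ∈ H, g * x * g⁻¹ ∈ H := fun x hx =>
    hH.mem_of_commute hg (fun e => h1 (conj_eq_one_iff.1 e)) (commute_conj g (hH.comm x hx h hh))
  have hm : H.map (MulAut.conj g).toMonoidHom = H := by
    refine eq_of_le_of_card_ge ?_ (card_map_of_injective (MulAut.conj g).injective).ge
    rintro _ ⟨x, hx, rfl⟩
    exact key x hx
  rw [mem_normalizer_iff]
  intro x
  refine ⟨key x, fun h' => ?_⟩
  rw [← hm] at h'
  obtain ⟨y, hy, e⟩ := h'
  have e' : y = x := by simpa [MulAut.conj_apply] using e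
  exact e' ▸ hy

omit hH in
theorem exists_sylow_le (hcop : (Nat.card ↥H).Coprime H.index) {q : ℕ} [Fact q.Prime]
    (hq : q ∣ Nat.card ↥H) : ∃ P : Sylow q G, (P : Subgroup G) ≤ H := by
  obtain ⟨P₀⟩ : Nonempty (Sylow q ↥H) := inferInstance
  obtain ⟨P, hP⟩ := (P₀.2.map H.subtype).exists_le_sylow
  refine ⟨P, ?_⟩
  have hni : ¬ q ∣ H.index := fun hd =>
    (Fact.out : q.Prime).not_dvd_one (hcop.gcd_eq_one ▸ Nat.dvd_gcd hq hd)
  have h : (P₀ : Subgroup ↥H).map H.subtype = (P : Subgroup G) := by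
    refine eq_of_le_of_card_ge hP (le_of_eq ?_)
    rw [Sylow.card_eq_multiplicity, card_map_of_injective (subtype_injective _),
      Sylow.card_eq_multiplicity, ← H.card_mul_index,
      Nat.factorization_mul Nat.card_pos.ne' index_ne_zero_of_finite, Finsupp.add_apply,
      Nat.factorization_eq_zero_of_not_dvd hni, add_zero]
  exact h ▸ map_subtype_le _

theorem exists_conj_mem {q : ℕ} [Fact q.Prime] (hq : q ∣ Nat.card ↥H) {w : G} (hw : IsQ q w) :
    ∃ g : G, g * w * g⁻¹ ∈ H := by
  obtain ⟨P, hP⟩ := exists_sylow_le hH.cop hq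
  obtain ⟨g, hg⟩ := exists_conj_mem_sylow hw P
  exact ⟨g, hP hg⟩

theorem mem_of_normalizer {q : ℕ} (hqp : q.Prime) (hq : q ∣ Nat.card ↥H) {w : G} (hw : IsQ q w)
    (hn : w ∈ normalizer (H : Set G)) : w ∈ H := by
  set X := normalizer (H : Set G)
  haveI : (H.subgroupOf X).Normal := normal_subgroupOf_of_le_normalizer le_rfl
  have h1 := (H.subgroupOf X).pow_index_mem (⟨w, hn⟩ : ↥X)
  rw [mem_subgroupOf, SubgroupClass.coe_pow] at h1
  have hd : (H.subgroupOf X).index ∣ H.index := relIndex_dvd_index_of_le le_normalizer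
  have hni : ¬ q ∣ H.index := fun hd' =>
    hqp.not_dvd_one (hH.cop.gcd_eq_one ▸ Nat.dvd_gcd hq hd')
  obtain ⟨j, hj⟩ := hw.orderOf_eq hqp
  have hco : ((H.subgroupOf X).index).Coprime (orderOf w) := by
    rw [hj]
    exact ((hqp.coprime_iff_not_dvd.2 fun h => hni (h.trans hd)).symm).pow_right j
  obtain ⟨i, hi⟩ := exists_pow_eq_self_of_coprime (x := w) hco
  exact hi ▸ pow_mem h1 i

end CC

/-- A group with cyclic Sylow 2-subgroups is solvable. -/
theorem isSolvable_of_cyclic_two (S : Sylow 2 G) (hS : IsCyclic ↥(S : Subgroup G)) :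
    Group.IsSolvable G := by
  by_cases hodd : Odd (Nat.card G)
  · exact S0205.result hodd
  haveI : Fact (Nat.Prime 2) := ⟨Nat.prime_two⟩
  have hmin : (Nat.card G).minFac = 2 := (Nat.minFac_eq_two_iff _).2
    (even_iff_two_dvd.1 (Nat.not_odd_iff_even.1 hodd))
  obtain ⟨P, N, hN, hcompl⟩ := Fusion.hasNormalPComplement_of_normalizer_le_centralizer S
    (IsCyclic.normalizer_le_centralizer hmin hS)
  haveI := hN
  have hNo : Odd (Nat.card ↥N) := by
    rw [← Nat.not_even_iff_odd, even_iff_two_dvd]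
    intro h2
    apply P.not_dvd_index
    rw [hcompl.index_eq_card]
    exact h2
  refine (Group.isSolvable_iff_subgroup_quotient N).2 ⟨S0205.result hNo, ?_⟩
  haveI : Group.IsNilpotent ↥(P : Subgroup G) := P.2.isNilpotent
  exact Group.isSolvable_of_surjective
    (f := (hcompl.symm.QuotientMulEquiv).symm.toMonoidHom) (MulEquiv.surjective _)

/-- An abelian 2-group with a unique involution is cyclic. -/
theorem isCyclic_of_unique_involution {S : Subgroup G} (hS : IsPGroup 2 ↥S)
    (hcomm : ∀ x ∈ S, ∀ y ∈ S, Commute x y)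
    (huniq : ∀ x ∈ S, ∀ y ∈ S, orderOf x = 2 → orderOf y = 2 → x = y) : IsCyclic ↥S := by
  haveI : Fact (Nat.Prime 2) := ⟨Nat.prime_two⟩
  have hu : ∀ A B : Subgroup ↥S, Nat.card A = 2 → Nat.card B = 2 → A = B := by
    intro A B hA hB
    obtain ⟨x, hx⟩ := exists_prime_orderOf_dvd_card' (G := A) 2 (by rw [hA])
    obtain ⟨y, hy⟩ := exists_prime_orderOf_dvd_card' (G := B) 2 (by rw [hB])
    rw [← Subgroup.orderOf_coe] at hx hy
    have hxy : (x : ↥S) = (y : ↥S) := Subtype.ext
      (huniq _ (x : ↥S).2 _ (y : ↥S).2 (by rw [Subgroup.orderOf_coe]; exact hx)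
        (by rw [Subgroup.orderOf_coe]; exact hy))
    have hA' : zpowers (x : ↥S) = A := eq_of_le_of_card_ge (zpowers_le.2 x.2)
      (by rw [Nat.card_zpowers, hx, hA])
    have hB' : zpowers (y : ↥S) = B := eq_of_le_of_card_ge (zpowers_le.2 y.2)
      (by rw [Nat.card_zpowers, hy, hB])
    rw [← hA', ← hB', hxy]
  rcases S0016.result 2 hS hu with h | ⟨-, n, ⟨e⟩⟩
  · exact h
  · rcases Nat.eq_zero_or_pos n with rfl | hn
    · rw [pow_zero] at e
      haveI := QuaternionGroup.quaternionGroup_one_isCyclic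
      exact isCyclic_of_surjective e.symm e.symm.surjective
    · exfalso
      have h1 : (QuaternionGroup.a (1 : ZMod (2 * 2 ^ n))) * QuaternionGroup.xa 0 =
          QuaternionGroup.xa 0 * QuaternionGroup.a 1 := by
        apply e.symm.injective
        rw [map_mul, map_mul]
        exact Subtype.ext (hcomm _ (e.symm _).2 _ (e.symm _).2).eq
      simp only [QuaternionGroup.a_mul_xa, QuaternionGroup.xa_mul_a, zero_sub, zero_add,
        QuaternionGroup.xa.injEq] at h1
      have h4 : (4 : ℕ) ≤ 2 * 2 ^ n := by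
        have h5 : 2 ^ 1 ≤ 2 ^ n := Nat.pow_le_pow_right (by norm_num) hn
        omega
      have h2 : ((2 : ℕ) : ZMod (2 * 2 ^ n)) = 0 := by
        push_cast
        linear_combination -h1
      rw [ZMod.natCast_eq_zero_iff] at h2
      have := Nat.le_of_dvd (by norm_num) h2
      omega

end Cfsg.Agent.H86.ClassSizes
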