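import Cfsg.Agent.S4037
import Cfsg.Agent.S0028
import Cfsg.Agent.Components.Fitting
import Cfsg.Agent.Cores.Basic
import Cfsg.Agent.PGroups.Basic
import Cfsg.Agent.H40.SupSolvable
import Cfsg.Agent.Hall.TwoClassSizes
import Cfsg.Agent.Hall.ClassSizeNilpotent
import Cfsg.Prelude.Def_RootSubgroups

/-!
# Centralisers, class sizes and the solvable radical

Elementary lemmas for the groups with few class sizes.
-/

set_option autoImplicit false
set_option linter.style.haveILetI false
set_option linter.unusedSectionVars false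

namespace Cfsg.Agent.H86.ClassSizes

open Subgroup
open Cfsg.Agent.Hall.TwoSizes (IsQ)

universe u

variable {G : Type u} [Group G]

/-- The centraliser of an element. -/
abbrev cz (x : G) : Subgroup G := centralizer ({x} : Set G)

/-- The class size of an element. -/
noncomputable abbrev sz (x : G) : ℕ := (cz x).index

theorem mem_cz {x y : G} : y ∈ cz x ↔ Commute y x := mem_centralizer_singleton_iff

theorem le_cz_of_mem_zpowers {x w : G} (h : w ∈ zpowers x) : cz x ≤ cz w := by
  intro g hg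
  obtain ⟨k, rfl⟩ := mem_zpowers_iff.1 h
  exact mem_cz.2 ((mem_cz.1 hg).zpow_right k)

theorem sz_conj (g x : G) : sz (g * x * g⁻¹) = sz x := by
  have h : cz (g * x * g⁻¹) = (cz x).map (MulAut.conj g).toMonoidHom := by
    ext y
    rw [mem_map_equiv, mem_cz, mem_cz, MulAut.conj_symm_apply]
    refine ⟨fun h => ?_, fun h => ?_⟩
    · have := h.map (MulAut.conj g⁻¹).toMonoidHom
      simp only [MulEquiv.toMonoidHom_eq_coe, MonoidHom.coe_coe, MulAut.conj_apply, inv_inv] at this
      rwa [show g⁻¹ * (g * x * g⁻¹) * g = x by group] at this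
    · have := h.map (MulAut.conj g).toMonoidHom
      simp only [MulEquiv.toMonoidHom_eq_coe, MonoidHom.coe_coe, MulAut.conj_apply] at this
      rwa [show g * (g⁻¹ * y * g) * g⁻¹ = y by group] at this
  rw [sz, sz, h]
  exact index_map_equiv _ (MulAut.conj g)

theorem commute_conj {x y : G} (g : G) (h : Commute x y) :
    Commute (g * x * g⁻¹) (g * y * g⁻¹) := by
  simpa using h.map (MulAut.conj g).toMonoidHom

theorem sz_eq_one_iff {x : G} : sz x = 1 ↔ x ∈ center G := by
  rw [sz, index_eq_one, eq_top_iff, mem_center_iff]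
  exact ⟨fun h g => mem_cz.1 (h (mem_top g)), fun h g _ => mem_cz.2 (h g)⟩

theorem inf_cz_le_cz_mul (x w : G) : cz x ⊓ cz w ≤ cz (x * w) := fun _ hg =>
  mem_cz.2 ((mem_cz.1 hg.1).mul_right (mem_cz.1 hg.2))

variable [Finite G]

theorem orderOf_isQ_dvd {q : ℕ} {x : G} (h : IsQ q x) : ∃ k, orderOf x ∣ q ^ k := by
  obtain ⟨k, hk⟩ := h
  exact ⟨k, orderOf_dvd_of_pow_eq_one hk⟩

omit [Finite G] in
theorem isQ_of_orderOf {q : ℕ} {x : G} (h : orderOf x = q) : IsQ q x :=
  ⟨1, by rw [pow_one, ← h, pow_orderOf_eq_one]⟩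

omit [Finite G] in
theorem isQ_of_mem_zpowers {q : ℕ} {x w : G} (hx : IsQ q x) (hw : w ∈ zpowers x) : IsQ q w := by
  obtain ⟨k, hk⟩ := hx
  obtain ⟨i, rfl⟩ := mem_zpowers_iff.1 hw
  exact ⟨k, by rw [← zpow_natCast, ← zpow_mul, mul_comm, zpow_mul, zpow_natCast, hk, one_zpow]⟩

omit [Finite G] in
theorem isPGroup_zpowers_of_isQ {q : ℕ} {x : G} (hx : IsQ q x) : IsPGroup q ↥(zpowers x) :=
  fun ⟨w, hw⟩ => by
    obtain ⟨k, hk⟩ := isQ_of_mem_zpowers hx hw
    exact ⟨k, Subtype.ext (by simpa using hk)⟩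

theorem ne_of_coprime_orderOf {q r : ℕ} (hq : q.Prime) (hr : r.Prime) {x w : G}
    (hx : IsQ q x) (hw : IsQ r w) (hx1 : x ≠ 1) (h : (orderOf x).Coprime (orderOf w)) (hw1 : w ≠ 1) :
    q ≠ r := by
  rintro rfl
  obtain ⟨i, hi⟩ := hx.orderOf_eq hq
  obtain ⟨j, hj⟩ := hw.orderOf_eq hr
  rcases Nat.eq_zero_or_pos i with rfl | hi0
  · exact hx1 (orderOf_eq_one_iff.1 (by rw [hi, pow_zero]))
  rcases Nat.eq_zero_or_pos j with rfl | hj0
  · exact hw1 (orderOf_eq_one_iff.1 (by rw [hj, pow_zero]))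
  exact hq.not_dvd_one (h.symm.gcd_eq_one ▸ Nat.dvd_gcd (hj ▸ dvd_pow_self q hj0.ne')
    (hi ▸ dvd_pow_self q hi0.ne'))

theorem orderOf_coprime_of_isQ {q r : ℕ} (hq : q.Prime) (hr : r.Prime) (hqr : q ≠ r) {x w : G}
    (hx : IsQ q x) (hw : IsQ r w) : (orderOf x).Coprime (orderOf w) :=
  hx.coprime hq hr hqr hw

/-- Commuting elements of coprime orders are powers of their product. -/
theorem mem_zpowers_mul {x w : G} (hc : Commute x w) (hco : (orderOf x).Coprime (orderOf w)) :
    x ∈ zpowers (x * w) := by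
  obtain ⟨j, hj⟩ := exists_pow_eq_self_of_coprime (x := x) hco.symm
  have h : ((x * w) ^ orderOf w) ^ j = x := by rw [hc.mul_pow, pow_orderOf_eq_one, mul_one, hj]
  exact mem_zpowers_iff.2 ⟨((orderOf w * j : ℕ) : ℤ), by rw [zpow_natCast, pow_mul, h]⟩

theorem cz_mul {x w : G} (hc : Commute x w) (hco : (orderOf x).Coprime (orderOf w)) :
    cz (x * w) = cz x ⊓ cz w := by
  refine le_antisymm (le_inf (le_cz_of_mem_zpowers (mem_zpowers_mul hc hco)) ?_)
    (inf_cz_le_cz_mul x w)
  rw [hc.eq]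
  exact le_cz_of_mem_zpowers (mem_zpowers_mul hc.symm hco.symm)

theorem cz_mul_le_left {x w : G} (hc : Commute x w) (hco : (orderOf x).Coprime (orderOf w)) :
    cz (x * w) ≤ cz x := (cz_mul hc hco).le.trans inf_le_left

theorem cz_mul_le_right {x w : G} (hc : Commute x w) (hco : (orderOf x).Coprime (orderOf w)) :
    cz (x * w) ≤ cz w := (cz_mul hc hco).le.trans inf_le_right

theorem sz_dvd_of_le {x w : G} (h : cz x ≤ cz w) : sz w ∣ sz x := index_dvd_of_le h

theorem cz_eq_of_le {x w : G} (h : cz x ≤ cz w) (hs : sz x ∣ sz w) : cz x = cz w := by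
  refine le_antisymm h (relIndex_eq_one.1 ?_)
  have h1 := relIndex_mul_index h
  exact (Nat.mul_eq_right index_ne_zero_of_finite).1 (h1.trans (Nat.dvd_antisymm hs (sz_dvd_of_le h)))

theorem exists_prime_pow_power {x : G} (hx : x ≠ 1) :
    ∃ q : ℕ, q.Prime ∧ ∃ w ∈ zpowers x, orderOf w = q := by
  obtain ⟨q, hq, hd⟩ := Nat.exists_prime_and_dvd (mt orderOf_eq_one_iff.1 hx)
  exact ⟨q, hq, x ^ (orderOf x / q), npow_mem_zpowers x _,
    orderOf_pow_orderOf_div (orderOf_pos x).ne' hd⟩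

omit [Finite G] in
theorem ne_one_of_orderOf_prime {q : ℕ} (hq : q.Prime) {x : G} (h : orderOf x = q) : x ≠ 1 := by
  rintro rfl
  exact hq.ne_one (h ▸ orderOf_one)

/-- A subgroup is contained in another as soon as its elements of prime power order are. -/
theorem le_of_forall_isQ {H K : Subgroup G}
    (h : ∀ q : ℕ, q.Prime → ∀ w ∈ H, IsQ q w → w ∈ K) : H ≤ K := by
  have key : K.subgroupOf H = ⊤ := by
    refine Components.eq_top_of_forall_sylow _ fun q hq => ?_
    obtain ⟨P⟩ : Nonempty (Sylow q ↥H) := inferInstance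
    refine ⟨P, fun x hx => mem_subgroupOf.2 (h q hq.out _ x.2 ?_)⟩
    obtain ⟨k, hk⟩ := IsQ.of_mem P.2 hx
    exact ⟨k, by simpa using congrArg Subtype.val hk⟩
  exact subgroupOf_eq_top.1 key

/-! ### Sylow subgroups -/

theorem exists_sylow_le_cz {q : ℕ} [Fact q.Prime] {x : G} (h : ¬ q ∣ sz x) :
    ∃ P : Sylow q G, (P : Subgroup G) ≤ cz x := by
  obtain ⟨P, hP⟩ := Hall.ClassSizeNilpotent.exists_sylow_le_centralizer (g := x) h
  exact ⟨P, fun y hy => mem_cz.2 (mem_centralizer_iff.1 hP y hy)⟩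

theorem not_dvd_sz {q : ℕ} [Fact q.Prime] {x : G} {P : Sylow q G} (h : (P : Subgroup G) ≤ cz x) :
    ¬ q ∣ sz x := fun hd => P.not_dvd_index (hd.trans (index_dvd_of_le h))

theorem exists_conj_mem_sylow {q : ℕ} [Fact q.Prime] {w : G} (hw : IsQ q w) (P : Sylow q G) :
    ∃ g : G, g * w * g⁻¹ ∈ (P : Subgroup G) := by
  obtain ⟨Q, hQ⟩ := (isPGroup_zpowers_of_isQ hw).exists_le_sylow
  obtain ⟨g, hg⟩ := MulAction.exists_smul_eq G Q P
  refine ⟨g, ?_⟩
  rw [← hg]
  exact ⟨w, hQ (mem_zpowers w), rfl⟩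

/-- A `q`-element commutes with a conjugate of every element whose class size is prime to `q`. -/
theorem exists_commute_conj {q : ℕ} [Fact q.Prime] {x w : G} (h : ¬ q ∣ sz x) (hw : IsQ q w) :
    ∃ g : G, Commute (g * w * g⁻¹) x := by
  obtain ⟨P, hP⟩ := exists_sylow_le_cz h
  obtain ⟨g, hg⟩ := exists_conj_mem_sylow hw P
  exact ⟨g, mem_cz.1 (hP hg)⟩

theorem le_sylow_of_normal {q : ℕ} [Fact q.Prime] {N : Subgroup G} [N.Normal]
    (hN : IsPGroup q ↥N) (P : Sylow q G) : N ≤ (P : Subgroup G) := hN.le_sylow_of_normal P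

/-- A normal subgroup meeting a Sylow subgroup contains an element of its centre of prime order. -/
theorem exists_central_mem {q : ℕ} [Fact q.Prime] (P : Sylow q G) (N : Subgroup G) [N.Normal]
    (h : N ⊓ (P : Subgroup G) ≠ ⊥) :
    ∃ z ∈ N, z ∈ (P : Subgroup G) ∧ orderOf z = q ∧ (P : Subgroup G) ≤ cz z := by
  obtain ⟨z₀, hzN, hzc, hz⟩ := PGroups.exists_mem_center_orderOf_eq P.2
    (N.subgroupOf (P : Subgroup G)) (fun e => h (by
      rw [subgroupOf_eq_bot] at e
      exact e.eq_bot))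
  refine ⟨(z₀ : G), hzN, z₀.2, by rw [orderOf_coe]; exact hz, fun s hs => ?_⟩
  exact mem_cz.2 (congrArg Subtype.val (mem_center_iff.1 hzc ⟨s, hs⟩))

theorem exists_central {q : ℕ} [Fact q.Prime] (P : Sylow q G) (hd : q ∣ Nat.card G) :
    ∃ z ∈ (P : Subgroup G), orderOf z = q ∧ (P : Subgroup G) ≤ cz z := by
  obtain ⟨z, -, hz⟩ := exists_central_mem P ⊤ (by rw [top_inf_eq]; exact P.ne_bot_of_dvd_card hd)
  exact ⟨z, hz⟩

/-- A `q`-element commutes with an element of order `q` of class size prime to `q`. -/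
theorem exists_central_commute {q : ℕ} [Fact q.Prime] {w : G} (hw : IsQ q w) (hw1 : w ≠ 1) :
    ∃ z : G, orderOf z = q ∧ ¬ q ∣ sz z ∧ Commute z w := by
  obtain ⟨Q, hQ⟩ := (isPGroup_zpowers_of_isQ hw).exists_le_sylow
  have hd : q ∣ Nat.card G := by
    obtain ⟨i, hi⟩ := hw.orderOf_eq Fact.out
    refine (dvd_trans ?_ (orderOf_dvd_natCard w))
    rw [hi]
    refine dvd_pow_self q fun h0 => hw1 (orderOf_eq_one_iff.1 ?_)
    rw [hi, h0, pow_zero]
  obtain ⟨z, -, hz, hc⟩ := exists_central Q hd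
  exact ⟨z, hz, not_dvd_sz hc, (mem_cz.1 (hc (hQ (mem_zpowers w)))).symm⟩

/-! ### Products of subgroups of coprime index -/

theorem index_inf_of_coprime {A B : Subgroup G} (h : A.index.Coprime B.index) :
    (A ⊓ B).index = A.index * B.index := by
  refine Nat.le_antisymm index_inf_le (Nat.le_of_dvd (Nat.pos_of_ne_zero index_ne_zero_of_finite) ?_)
  exact h.mul_dvd_of_dvd_of_dvd (index_dvd_of_le inf_le_left) (index_dvd_of_le inf_le_right)

theorem exists_mul_of_coprime_index {A B : Subgroup G} (h : A.index.Coprime B.index) (g : G) :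
    ∃ a ∈ A, ∃ b ∈ B, g = a * b := by
  classical
  let f : ↥B ⧸ A.subgroupOf B → G ⧸ A := Quotient.map' (fun b : ↥B => (b : G)) fun x y hxy => by
    rw [QuotientGroup.leftRel_apply] at hxy ⊢
    exact hxy
  have hinj : Function.Injective f := fun x y hxy => by
    induction x using QuotientGroup.induction_on with | _ x => ?_
    induction y using QuotientGroup.induction_on with | _ y => ?_
    exact QuotientGroup.eq.2 (mem_subgroupOf.2 (by simpa using QuotientGroup.eq.1 (show ((x : G) : G ⧸ A) = ((y : G) : G ⧸ A) from hxy)))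
  have hcard : Nat.card (↥B ⧸ A.subgroupOf B) = Nat.card (G ⧸ A) := by
    show A.relIndex B = A.index
    have h1 : A.relIndex B * B.index = A.index * B.index := by
      rw [← index_inf_of_coprime h, ← inf_relIndex_right A B, relIndex_mul_index inf_le_right]
    exact Nat.eq_of_mul_eq_mul_right (Nat.pos_of_ne_zero index_ne_zero_of_finite) h1
  obtain ⟨x, hx⟩ := (hinj.bijective_of_nat_card_le hcard.ge).2 (QuotientGroup.mk g⁻¹)
  induction x using QuotientGroup.induction_on with | _ b => ?_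
  have hm : (b : G)⁻¹ * g⁻¹ ∈ A := QuotientGroup.eq.1 hx
  exact ⟨((b : G)⁻¹ * g⁻¹)⁻¹, A.inv_mem hm, (b : G)⁻¹, B.inv_mem b.2, by group⟩

theorem normalClosure_le_cz {y z : G} (hc : Commute z y) (h : (sz y).Coprime (sz z)) :
    normalClosure ({z} : Set G) ≤ cz y := by
  rw [normalClosure, closure_le]
  intro w hw
  obtain ⟨z', hz', hconj⟩ := Group.mem_conjugatesOfSet_iff.1 hw
  rw [Set.mem_singleton_iff.1 hz'] at hconj
  obtain ⟨g, rfl⟩ := isConj_iff.1 hconj
  obtain ⟨k, hk, l, hl, rfl⟩ := exists_mul_of_coprime_index h g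
  rw [show k * l * z * (k * l)⁻¹ = k * (l * z * l⁻¹) * k⁻¹ by group, (mem_cz.1 hl).eq,
    mul_inv_cancel_right]
  exact (cz y).mul_mem ((cz y).mul_mem hk (mem_cz.2 hc)) ((cz y).inv_mem hk)

/-! ### The solvable radical -/

/-- The solvable radical. -/
abbrev Rad (G : Type u) [Group G] : Subgroup G := Cfsg.solvableRadical G

instance rad_normal : (Rad G).Normal := sSup_normal _ fun _ h => h.1

theorem isSolvable_rad : Group.IsSolvable ↥(Rad G) :=
  (Cores.sSup_mem_of_closed (S := {N : Subgroup G | N.Normal ∧ Group.IsSolvable N})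
    ⟨inferInstance, inferInstance⟩ (by
      rintro A ⟨hA, hAs⟩ B ⟨hB, hBs⟩
      exact ⟨Subgroup.sup_normal A B, H40.isSolvable_sup
        (fun x _ => (normalizer_eq_top_iff.2 hA) ▸ mem_top x) hAs hBs⟩)).2

omit [Finite G] in
theorem le_rad {N : Subgroup G} (hN : N.Normal) (h : Group.IsSolvable ↥N) : N ≤ Rad G :=
  le_sSup ⟨hN, h⟩

omit [Finite G] in
theorem isSolvable_of_le {H K : Subgroup G} (hle : H ≤ K) (h : Group.IsSolvable ↥K) :
    Group.IsSolvable ↥H :=
  haveI := h
  Group.isSolvable_of_isSolvable_injective (f := inclusion hle) (inclusion_injective hle)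

omit [Finite G] in
theorem mem_rad_of_normalClosure_le {x : G} {K : Subgroup G} (hK : Group.IsSolvable ↥K)
    (h : normalClosure ({x} : Set G) ≤ K) : x ∈ Rad G :=
  le_rad normalClosure_normal (isSolvable_of_le h hK) (subset_normalClosure rfl)

/-- An element whose class is of prime power size modulo the radical lies in the radical. -/
theorem mem_rad_of_sup_index {x : G} {q k : ℕ} (hq : q.Prime)
    (h : (cz x ⊔ Rad G).index ∣ q ^ k) : x ∈ Rad G := by
  set f := QuotientGroup.mk' (Rad G)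
  have hle : (cz x ⊔ Rad G).map f ≤ cz (f x) := by
    rw [Subgroup.map_sup, sup_le_iff]
    constructor
    · rintro _ ⟨g, hg, rfl⟩
      exact mem_cz.2 ((mem_cz.1 hg).map f)
    · rintro _ ⟨g, hg, rfl⟩
      rw [show f g = 1 from (QuotientGroup.eq_one_iff g).2 hg]
      exact one_mem _
  have hd : sz (f x) ∣ q ^ k := by
    refine (index_dvd_of_le hle).trans ?_
    rwa [index_map_eq _ (QuotientGroup.mk'_surjective _) (by
      rw [QuotientGroup.ker_mk']; exact le_sup_right)]
  obtain ⟨j, -, hj⟩ := (Nat.dvd_prime_pow hq).1 hd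
  have hs := S4037.result (f x) hq j (by
    rw [← Nat.card_coe_set_eq, Hall.ClassSizeNilpotent.card_carrier_mk]; exact hj)
  haveI := hs
  haveI := isSolvable_rad (G := G)
  set M := (normalClosure ({f x} : Set (G ⧸ Rad G))).comap f
  have hM : Group.IsSolvable ↥M := by
    refine Group.isSolvable_of_ker_le_range (inclusion (show Rad G ≤ M from fun g hg =>
      mem_comap.2 (by
        rw [show f g = 1 from (QuotientGroup.eq_one_iff g).2 hg]
        exact one_mem _))) (f.subgroupComap (normalClosure ({f x} : Set (G ⧸ Rad G)))) ?_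
    intro v hv
    exact ⟨⟨v, (QuotientGroup.eq_one_iff (v : G)).1 (congrArg Subtype.val (MonoidHom.mem_ker.1 hv))⟩, rfl⟩
  exact le_rad (normalClosure_normal.comap f) hM (mem_comap.2 (subset_normalClosure rfl))

theorem mem_rad_of_sz_primePow {x : G} {q k : ℕ} (hq : q.Prime) (h : sz x ∣ q ^ k) : x ∈ Rad G :=
  mem_rad_of_sup_index hq ((index_dvd_of_le le_sup_left).trans h)

theorem mem_rad_of_coprime_index {x : G} (h : (sz x).Coprime (Rad G).index) : x ∈ Rad G :=
  mem_rad_of_sup_index (k := 0) Nat.prime_two (by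
    rw [pow_zero, ← h.gcd_eq_one]
    exact Nat.dvd_gcd (index_dvd_of_le le_sup_left) (index_dvd_of_le le_sup_right))

theorem exists_isQ_not_mem {N : Subgroup G} {H : Subgroup G} (h : ¬ H ≤ N) :
    ∃ q : ℕ, q.Prime ∧ ∃ w ∈ H, IsQ q w ∧ w ∉ N := by
  by_contra hcon
  push Not at hcon
  exact h (le_of_forall_isQ hcon)

/-! ### Thompson's `A × B` lemma for elements -/

/-- If an `r`-element has its centraliser inside that of a commuting element of order prime to `r`,
the latter centralises every normal `r`-subgroup. -/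
theorem mem_centralizer_of_cz_le {r : ℕ} [Fact r.Prime] {U : Subgroup G} [U.Normal]
    (hU : IsPGroup r ↥U) {w g : G} (hw : IsQ r w) (hg : (orderOf g).Coprime r)
    (hle : cz w ≤ cz g) : g ∈ centralizer (U : Set G) := by
  have hcom : Commute w g := mem_cz.1 (hle (mem_cz.2 (Commute.refl w)))
  have hn : ∀ x : G, zpowers x ≤ normalizer (U : Set G) := fun x y _ =>
    (normalizer_eq_top_iff.2 (inferInstance : U.Normal)) ▸ mem_top y
  refine S0028.result r (zpowers w) (zpowers g) U (isPGroup_zpowers_of_isQ hw)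
    (by rwa [Nat.card_zpowers]) hU ?_ (hn w) (hn g) ?_ (mem_zpowers g)
  · rw [zpowers_le, mem_centralizer_iff]
    rintro y hy
    obtain ⟨i, rfl⟩ := mem_zpowers_iff.1 hy
    exact (hcom.zpow_right i).eq.symm
  · intro u hu
    have hu := mem_centralizer_iff.1 (mem_inf.1 hu).2
    refine mem_centralizer_iff.2 fun y hy => ?_
    have huw : u ∈ cz w := mem_cz.2 (hu w (mem_zpowers w)).symm
    exact (mem_cz.1 (le_cz_of_mem_zpowers hy (hle huw))).eq.symm

end Cfsg.Agent.H86.ClassSizes
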