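import Cfsg.Agent.H86.ClassSizes.CC
import Cfsg.Agent.CharBasic.Virtual
import Cfsg.Agent.CharBasic.Kernel
import Cfsg.Agent.CharInduce.Ops
import Cfsg.Agent.CharInduce.Transport
import Cfsg.Agent.S0146
import Cfsg.Agent.S0148
import Cfsg.Agent.S0215
import Mathlib.GroupTheory.Subgroup.Simple

/-!
# No simple group is the product of an abelian CC Hall subgroup and the centraliser of an involution

The permutation character on the cosets of the centraliser restricts to the CC subgroup as its regular
character; its constituents other than the trivial one vanish at the involution, which is then isolated.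
-/

set_option autoImplicit false
set_option linter.style.haveILetI false
set_option linter.unusedSectionVars false

namespace Cfsg.Agent.H86.ClassSizes

open Subgroup
open Cfsg.Agent.CharBasic
open Cfsg.Agent.CharInduce (IsChar.exists_hom_of_degree_one IsChar.res IsIrr.degree_one_of_comm)
open scoped ComplexConjugate

universe u

variable {G : Type u} [Group G] [Fintype G]

theorem false_core [IsSimpleGroup G] (hna : ∃ p q : G, p * q ≠ q * p) {H : Subgroup G} (hH : CC H)
    (hne : H ≠ ⊥) {y : G} (hy : orderOf y = 2)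
    (hcard : Nat.card ↥(cz y) * Nat.card ↥H = Nat.card G) : False := by
  classical
  haveI : Fact (Nat.Prime 2) := ⟨Nat.prime_two⟩
  set K := cz y with hK
  set a := Nat.card ↥H with ha
  set N := normalizer (H : Set G) with hN
  have ha0 : (a : ℂ) ≠ 0 := Nat.cast_ne_zero.2 Nat.card_pos.ne'
  have hKidx : K.index = a := by
    have h := K.card_mul_index
    rw [← hcard] at h
    exact Nat.eq_of_mul_eq_mul_left Nat.card_pos h
  have hHidx : H.index = Nat.card ↥K := by
    have h := H.card_mul_index
    rw [← hcard, mul_comm (Nat.card ↥K)] at h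
    exact Nat.eq_of_mul_eq_mul_left Nat.card_pos h
  have hcop : a.Coprime (Nat.card ↥K) := hHidx ▸ hH.cop
  have hy1 := ne_one_of_orderOf_prime Nat.prime_two hy
  have hyK : y ∈ K := mem_cz.2 (Commute.refl y)
  have hZ : center G = ⊥ := by
    refine (inferInstance : (center G).Normal).eq_bot_or_eq_top.resolve_right fun h => ?_
    obtain ⟨p, q, hpq⟩ := hna
    exact hpq (mem_center_iff.1 (h ▸ mem_top q) p)
  -- the restriction multiplicities
  have hlin : ∀ l : Cfsg.IrrCharacter ↥H, (l : ↥H → ℂ) 1 = 1 := fun l =>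
    IsIrr.degree_one_of_comm (fun p q => Subtype.ext (hH.comm p p.2 q q.2).eq) l.2
  have hres : ∀ χ : Cfsg.IrrCharacter G, Cfsg.IsCharacter ↥H (fun h : ↥H => (χ : G → ℂ) h) :=
    fun χ => IsChar.res (IsIrr.isCharacter χ.2) H
  choose m hm hexp using fun χ : Cfsg.IrrCharacter G => IsChar.exists_nat_mult (hres χ)
  have hdeg : ∀ χ : Cfsg.IrrCharacter G, (χ : G → ℂ) 1 = ∑ l, (m χ l : ℂ) := fun χ => by
    have h := congrFun (hexp χ) 1
    simp only [OneMemClass.coe_one, Finset.sum_apply, Pi.smul_apply, smul_eq_mul, hlin, mul_one] at h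
    exact h
  -- conjugation by the normaliser
  let cj : ↥N → ↥H ≃* ↥H := fun n =>
    { toFun := fun h => ⟨(n : G) * h * (n : G)⁻¹, (mem_normalizer_iff.1 n.2 _).1 h.2⟩
      invFun := fun h => ⟨(n : G)⁻¹ * h * (n : G), (mem_normalizer_iff.1 n.2 _).2 (by
        simp [mul_assoc])⟩
      left_inv := fun h => Subtype.ext (by simp [mul_assoc])
      right_inv := fun h => Subtype.ext (by simp [mul_assoc])
      map_mul' := fun g h => Subtype.ext (by simp [mul_assoc]) }
  let tw : ↥N → Cfsg.IrrCharacter ↥H → Cfsg.IrrCharacter ↥H := fun n l =>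
    ⟨fun h => (l : ↥H → ℂ) (cj n h),
      Cfsg.Agent.CharInduce.IsIrr.comp l.2 (cj n).toMonoidHom (cj n).surjective⟩
  have hmtw : ∀ (χ : Cfsg.IrrCharacter G) (n : ↥N) l, m χ (tw n l) = m χ l := by
    intro χ n l
    have h1 := hm χ (tw n l)
    have h2 := hm χ l
    rw [classInner_def] at h1 h2
    have h3 : ∑ h : ↥H, (χ : G → ℂ) h * conj ((tw n l : ↥H → ℂ) h) =
        ∑ h : ↥H, (χ : G → ℂ) h * conj ((l : ↥H → ℂ) h) := by
      refine Fintype.sum_equiv (cj n).toEquiv _ _ fun h => ?_
      have e : (χ : G → ℂ) (((cj n).toEquiv h : ↥H) : G) = (χ : G → ℂ) (h : G) :=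
        IsIrr.isClassFunction χ.2 (h : G) (n : G)
      rw [e]
      rfl
    rw [h3] at h1
    exact_mod_cast h1.symm.trans h2
  -- the one-point linear character
  let one : Cfsg.IrrCharacter ↥H := ⟨fun _ => 1, isIrrCharacter_one⟩
  have hfix : ∀ (n : ↥N) l, tw n l = l → l ≠ one → (n : G) ∈ H := by
    intro n l hl hl1
    by_contra hn
    obtain ⟨f, hf⟩ := IsChar.exists_hom_of_degree_one (IsIrr.isCharacter l.2) (hlin l)
    have hinj : Function.Injective fun h : ↥H => h⁻¹ * cj n h := by
      intro g h hgh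
      by_contra hne'
      have e1 : cj n (g * h⁻¹) = g * h⁻¹ := by
        rw [map_mul, map_inv]
        have e2 : cj n g = g * (h⁻¹ * cj n h) := by
          rw [← show g⁻¹ * cj n g = h⁻¹ * cj n h from hgh, mul_inv_cancel_left]
        rw [e2, ← mul_assoc, mul_inv_cancel_right]
      have e3 : (n : G) * ((g * h⁻¹ : ↥H) : G) * (n : G)⁻¹ = ((g * h⁻¹ : ↥H) : G) :=
        congrArg Subtype.val e1
      exact hn (hH.mem_of_commute (g * h⁻¹ : ↥H).2
        (fun e => hne' (mul_inv_eq_one.1 (Subtype.ext e))) (mul_inv_eq_iff_eq_mul.1 e3))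
    refine hl1 (Subtype.ext (funext fun k => ?_))
    obtain ⟨h, rfl⟩ := (hinj.bijective_of_finite).2 k
    show (l : ↥H → ℂ) (h⁻¹ * cj n h) = 1
    have h1 : (l : ↥H → ℂ) (cj n h) = (l : ↥H → ℂ) h := congrFun (congrArg Subtype.val hl) h
    rw [hf, hf] at h1
    rw [hf, map_mul, map_inv, Units.ext h1, inv_mul_cancel, Units.val_one]
  have hfix' : ∀ (n : ↥N) l, (n : G) ∈ H → tw n l = l := fun n l hn => Subtype.ext (funext fun h => by
    show (l : ↥H → ℂ) (cj n h) = _
    refine congrArg (l : ↥H → ℂ) (Subtype.ext ?_)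
    show (n : G) * h * (n : G)⁻¹ = h
    rw [(hH.comm _ hn _ h.2).eq, mul_inv_cancel_right])
  -- the key count
  have key : ∀ l l' : Cfsg.IrrCharacter ↥H, l ≠ one → l' ≠ one → (∀ n, tw n l ≠ l') →
      ∑ χ : Cfsg.IrrCharacter G, ((m χ l : ℤ) - m χ l') ^ 2 = 2 := by
    intro l l' hl hl' horb
    let d : ↥H → ℂ := fun h => (l : ↥H → ℂ) h - (l' : ↥H → ℂ) h
    have hd1 : d 1 = 0 := by simp [d, hlin]
    have hmd : ∀ χ : Cfsg.IrrCharacter G, ((m χ l : ℂ) - m χ l') =
        (a : ℂ)⁻¹ * ∑ h : ↥H, (χ : G → ℂ) h * conj (d h) := fun χ => by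
      rw [← hm χ l, ← hm χ l', classInner_def, classInner_def, ← mul_sub, ← Finset.sum_sub_distrib]
      congr 1
      refine Finset.sum_congr rfl fun h _ => ?_
      simp only [d, map_sub]
      ring
    have hterm : ∀ χ : Cfsg.IrrCharacter G, ((m χ l : ℂ) - m χ l') ^ 2 =
        (a : ℂ)⁻¹ ^ 2 * ∑ h : ↥H, ∑ h' : ↥H,
          conj (d h) * d h' * ((χ : G → ℂ) h * conj ((χ : G → ℂ) h')) := fun χ => by
      have hc : conj ((m χ l : ℂ) - m χ l') = (m χ l : ℂ) - m χ l' := by
        rw [map_sub, Complex.conj_natCast, Complex.conj_natCast]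
      calc ((m χ l : ℂ) - m χ l') ^ 2 = ((m χ l : ℂ) - m χ l') * conj ((m χ l : ℂ) - m χ l') := by
            rw [hc, sq]
        _ = _ := by
            rw [hmd χ, map_mul, map_sum, map_inv₀, Complex.conj_natCast]
            rw [mul_mul_mul_comm, ← sq, Finset.sum_mul_sum]
            congr 1
            refine Finset.sum_congr rfl fun h _ => Finset.sum_congr rfl fun h' _ => ?_
            rw [map_mul, Complex.conj_conj]
            ring
    have hcount : ∀ h h' : ↥H, conj (d h) * d h' *
        (∑ χ : Cfsg.IrrCharacter G, (χ : G → ℂ) h * conj ((χ : G → ℂ) h')) =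
        ∑ n : ↥N, if cj n h' = h then conj (d h) * d h' else 0 := by
      intro h h'
      rw [second_orthogonality_count, ← Finset.sum_filter, Finset.sum_const, nsmul_eq_mul]
      by_cases h0 : h = 1
      · subst h0; simp [hd1]
      by_cases h0' : h' = 1
      · subst h0'; simp [hd1]
      rw [mul_comm]
      congr 1
      rw [← Fintype.card_subtype, ← Nat.card_eq_fintype_card, Nat.cast_inj]
      refine Nat.card_congr
        { toFun := fun x => ⟨⟨x.1, hH.mem_normalizer_of_conj h'.2
              (fun e => h0' (Subtype.ext e)) (x.2.symm ▸ h.2)⟩, Subtype.ext x.2⟩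
          invFun := fun n => ⟨(n.1 : G), congrArg Subtype.val n.2⟩
          left_inv := fun x => rfl
          right_inv := fun n => rfl }
    have hsum : ∀ n : ↥N, ∑ h' : ↥H, conj (d (cj n h')) * d h' =
        (a : ℂ) * ((if tw n l = l then 1 else 0) + (if tw n l' = l' then 1 else 0)) := by
      intro n
      have h1 : Cfsg.classInner d (fun h => d (cj n h)) =
          (if tw n l = l then (1 : ℂ) else 0) + (if tw n l' = l' then 1 else 0) := by
        have e1 : d = (l : ↥H → ℂ) - (l' : ↥H → ℂ) := rfl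
        have e2 : (fun h => d (cj n h)) = (tw n l : ↥H → ℂ) - (tw n l' : ↥H → ℂ) := rfl
        have ne1 : tw n l' ≠ l := fun e => horb n⁻¹ (by
          refine Subtype.ext (funext fun h => ?_)
          show (l : ↥H → ℂ) (cj n⁻¹ h) = _
          rw [← e]
          show (l' : ↥H → ℂ) (cj n (cj n⁻¹ h)) = _
          refine congrArg (l' : ↥H → ℂ) (Subtype.ext ?_)
          show (n : G) * (((n⁻¹ : ↥N) : G) * h * ((n⁻¹ : ↥N) : G)⁻¹) * (n : G)⁻¹ = h
          simp [mul_assoc])
        rw [e2, e1, classInner_sub_left, classInner_sub_right, classInner_sub_right]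
        simp only [classInner_irrCharacter]
        rw [if_neg (fun e : l = tw n l' => ne1 e.symm), if_neg (fun e : l' = tw n l => horb n e.symm)]
        simp only [eq_comm (a := l), eq_comm (a := l')]
        ring
      rw [← h1, classInner_def, ← mul_assoc, mul_inv_cancel₀ ha0, one_mul]
      exact Finset.sum_congr rfl fun h' _ => mul_comm _ _
    have hHN : ∀ l : Cfsg.IrrCharacter ↥H, l ≠ one →
        ∑ n : ↥N, (if tw n l = l then (1 : ℂ) else 0) = a := by
      intro l hl
      rw [Finset.sum_boole, ← Fintype.card_subtype, ← Nat.card_eq_fintype_card, Nat.cast_inj]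
      exact Nat.card_congr
        { toFun := fun n => ⟨(n.1 : G), hfix _ _ n.2 hl⟩
          invFun := fun h => ⟨⟨h.1, le_normalizer h.2⟩, hfix' _ _ h.2⟩
          left_inv := fun n => rfl
          right_inv := fun h => rfl }
    have hC : (∑ χ : Cfsg.IrrCharacter G, ((m χ l : ℂ) - m χ l') ^ 2) = 2 := by
      calc (∑ χ : Cfsg.IrrCharacter G, ((m χ l : ℂ) - m χ l') ^ 2)
          = (a : ℂ)⁻¹ ^ 2 * ∑ h : ↥H, ∑ h' : ↥H, conj (d h) * d h' *
              (∑ χ : Cfsg.IrrCharacter G, (χ : G → ℂ) h * conj ((χ : G → ℂ) h')) := by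
            simp only [hterm, ← Finset.mul_sum]
            congr 1
            rw [Finset.sum_comm]
            refine Finset.sum_congr rfl fun h _ => ?_
            rw [Finset.sum_comm]
            exact Finset.sum_congr rfl fun h' _ => (Finset.mul_sum _ _ _).symm
        _ = (a : ℂ)⁻¹ ^ 2 * ∑ n : ↥N, ∑ h' : ↥H, conj (d (cj n h')) * d h' := by
            simp only [hcount]
            congr 1
            have h1 : ∀ h : ↥H, (∑ h' : ↥H, ∑ n : ↥N, if cj n h' = h then conj (d h) * d h' else 0) =
                ∑ n : ↥N, ∑ h' : ↥H, if cj n h' = h then conj (d h) * d h' else 0 :=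
              fun h => Finset.sum_comm
            simp only [h1]
            rw [Finset.sum_comm]
            refine Finset.sum_congr rfl fun n _ => ?_
            rw [Finset.sum_comm]
            exact Finset.sum_congr rfl fun h' _ => by simp
        _ = 2 := by
            simp only [hsum, ← Finset.mul_sum, Finset.sum_add_distrib, hHN l hl, hHN l' hl']
            field_simp
            ring
    exact_mod_cast hC
  -- the permutation character
  set π := Cfsg.indFun K (fun _ : ↥K => (1 : ℂ)) with hπ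
  have hπc : Cfsg.IsCharacter G π :=
    S0148.result K _ (IsIrr.isCharacter isIrrCharacter_one)
  obtain ⟨M, hM, hMexp⟩ := IsChar.exists_nat_mult hπc
  let triv : Cfsg.IrrCharacter G := ⟨fun _ => 1, isIrrCharacter_one⟩
  have hMtriv : M triv = 1 := by
    have h := hM triv
    rw [hπ, S0146.result K _ _ (IsIrr.isClassFunction triv.2)] at h
    rw [classInner_irr_self (isIrrCharacter_one (G := ↥K))] at h
    exact_mod_cast h.symm
  have hπv : ∀ g : G, π g = (Nat.card ↥K : ℂ)⁻¹ * (Nat.card {x : G // x⁻¹ * g * x ∈ K} : ℂ) := by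
    intro g
    rw [hπ, Cfsg.indFun]
    congr 1
    rw [Nat.card_eq_fintype_card, Fintype.card_subtype, ← Finset.sum_boole]
    refine Finset.sum_congr rfl fun x _ => ?_
    rw [Cfsg.extendByZero]
    split_ifs with h
    · exact Subtype.val_injective.extend_apply _ _ (⟨_, h⟩ : ↥K)
    · rw [Function.extend_apply' _ _ _ (fun ⟨k, hk⟩ => h (hk ▸ k.2))]
      rfl
  have hK0 : (Nat.card ↥K : ℂ) ≠ 0 := Nat.cast_ne_zero.2 Nat.card_pos.ne'
  have hπh : ∀ h : ↥H, π h = if h = 1 then (a : ℂ) else 0 := by
    intro h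
    rw [hπv]
    split_ifs with h1
    · subst h1
      rw [Nat.card_congr (Equiv.subtypeUnivEquiv (p := fun x : G => x⁻¹ * ((1 : ↥H) : G) * x ∈ K) fun x => by
        simp [one_mem]), ← hcard]
      push_cast
      field_simp
    · haveI : IsEmpty {x : G // x⁻¹ * (h : G) * x ∈ K} := ⟨fun x => by
        have e1 : orderOf (x.1⁻¹ * (h : G) * x.1) = orderOf (h : G) := by
          have := orderOf_injective (MulAut.conj x.1⁻¹).toMonoidHom (MulAut.conj x.1⁻¹).injective (h : G)
          simpa [MulAut.conj_apply] using this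
        have h2 : orderOf (h : G) ∣ Nat.card ↥K := e1 ▸ Subgroup.orderOf_dvd_natCard K x.2
        have h3 : orderOf (h : G) ∣ a := Subgroup.orderOf_dvd_natCard H h.2
        exact h1 (Subtype.ext (orderOf_eq_one_iff.1 (Nat.eq_one_of_dvd_coprimes hcop h3 h2)))⟩
      simp
  have hreg : ∀ l : Cfsg.IrrCharacter ↥H, ∑ χ : Cfsg.IrrCharacter G, M χ * m χ l = 1 := by
    intro l
    have h1 : Cfsg.classInner (fun h : ↥H => π h) (l : ↥H → ℂ) = 1 := by
      rw [classInner_def, Finset.sum_eq_single (1 : ↥H)]
      · rw [hπh, if_pos rfl, hlin, map_one, mul_one, inv_mul_cancel₀ ha0]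
      · intro h _ hh
        rw [hπh, if_neg hh, zero_mul]
      · simp
    have h2 : (fun h : ↥H => π h) =
        ∑ χ : Cfsg.IrrCharacter G, (M χ : ℂ) • (fun h : ↥H => (χ : G → ℂ) h) := by
      funext h
      simp only [Finset.sum_apply, Pi.smul_apply]
      rw [hMexp]
      simp [Finset.sum_apply]
    rw [h2, classInner_sum_left] at h1
    simp only [classInner_smul_left, hm] at h1
    exact_mod_cast h1
  have hone : ∀ χ : Cfsg.IrrCharacter G, χ ≠ triv → M χ * m χ one = 0 := by
    intro χ hχ
    have h := hreg one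
    rw [← Finset.add_sum_erase _ _ (Finset.mem_univ triv)] at h
    have h1 : m triv one = 1 := by
      have := hm triv one
      rw [show (fun h : ↥H => (triv : G → ℂ) h) = (one : ↥H → ℂ) from rfl,
        classInner_irr_self one.2] at this
      exact_mod_cast this.symm
    rw [hMtriv, h1] at h
    have h2 : ∑ x ∈ Finset.univ.erase triv, M x * m x one = 0 := by omega
    exact Finset.sum_eq_zero_iff.1 h2 χ (Finset.mem_erase.2 ⟨hχ, Finset.mem_univ _⟩)
  have huniq : ∀ l (χ ψ : Cfsg.IrrCharacter G), M χ ≠ 0 → m χ l ≠ 0 → M ψ ≠ 0 → ψ ≠ χ →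
      m χ l = 1 ∧ M χ = 1 ∧ m ψ l = 0 := by
    intro l χ ψ hMχ hmχ hMψ hne'
    have h := hreg l
    rw [← Finset.add_sum_erase _ _ (Finset.mem_univ χ)] at h
    have h1 : 0 < M χ * m χ l := Nat.mul_pos (Nat.pos_of_ne_zero hMχ) (Nat.pos_of_ne_zero hmχ)
    have h2 : M χ * m χ l = 1 := by omega
    have h3 : ∑ x ∈ Finset.univ.erase χ, M x * m x l = 0 := by omega
    have h4 := Finset.sum_eq_zero_iff.1 h3 ψ (Finset.mem_erase.2 ⟨hne', Finset.mem_univ _⟩)
    exact ⟨Nat.eq_one_of_mul_eq_one_left h2, Nat.eq_one_of_mul_eq_one_right h2,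
      (Nat.mul_eq_zero.1 h4).resolve_left hMψ⟩
  -- constituents vanish at `y`
  have hvanish : ∀ χ : Cfsg.IrrCharacter G, χ ≠ triv → M χ ≠ 0 → (χ : G → ℂ) y = 0 := by
    intro χ hχ hMχ
    obtain ⟨k, ρ, hρ, hχρ⟩ := χ.2
    haveI := hρ
    have hχ1 : (χ : G → ℂ) 1 = (k : ℂ) := by rw [← hχρ, Representation.char_one]; simp
    have hkm : k = ∑ l, m χ l := by
      have h := hdeg χ
      rw [hχ1] at h
      exact_mod_cast h
    have hm1 : m χ one = 0 := (Nat.mul_eq_zero.1 (hone χ hχ)).resolve_left hMχ
    have hle1 : ∀ l, m χ l ≤ 1 := fun l => by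
      by_contra h
      have h' := hreg l
      have := Finset.single_le_sum (f := fun x => M x * m x l) (fun _ _ => Nat.zero_le _)
        (Finset.mem_univ χ)
      have : 1 * 2 ≤ M χ * m χ l := Nat.mul_le_mul (Nat.pos_of_ne_zero hMχ) (by omega)
      omega
    set S := Finset.univ.filter fun l => m χ l ≠ 0 with hS
    have hkS : k = S.card := by
      rw [hkm, hS, Finset.card_filter]
      exact Finset.sum_congr rfl fun l _ => by
        have := hle1 l
        split_ifs with h <;> omega
    have hkcop : k.Coprime a := by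
      by_cases hall : ∀ l, l ≠ one → m χ l ≠ 0
      · have hS' : S = Finset.univ.erase one := by
          ext l
          simp only [hS, Finset.mem_filter, Finset.mem_univ, true_and, Finset.mem_erase, and_true]
          exact ⟨fun h e => h (e ▸ hm1), hall l⟩
        have hcardirr : Fintype.card (Cfsg.IrrCharacter ↥H) = a := by
          have h := sum_sq_degree (G := ↥H)
          simp only [hlin, one_pow, Finset.sum_const, Finset.card_univ, nsmul_eq_mul, mul_one] at h
          exact_mod_cast h
        rw [hkS, hS', Finset.card_erase_of_mem (Finset.mem_univ _), Finset.card_univ, hcardirr]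
        have ha1 : 1 ≤ a := Nat.card_pos
        exact Nat.coprime_of_dvd fun p hp h1 h2 => hp.not_dvd_one (by
          have := Nat.dvd_sub h2 h1
          rwa [show a - (a - 1) = 1 by omega] at this)
      · push Not at hall
        obtain ⟨l', hl'1, hl'0⟩ := hall
        obtain ⟨ψ, hMψ, hmψ⟩ : ∃ ψ, M ψ ≠ 0 ∧ m ψ l' ≠ 0 := by
          by_contra hcon
          push Not at hcon
          have h := hreg l'
          rw [Finset.sum_eq_zero fun x _ => Nat.mul_eq_zero.2 ((em (M x = 0)).imp_right (hcon x))] at h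
          exact absurd h zero_ne_one
        have hψχ : ψ ≠ χ := fun e => hmψ (e ▸ hl'0)
        obtain ⟨hmψ1, -, -⟩ := huniq l' ψ χ hMψ hmψ hMχ (Ne.symm hψχ)
        by_cases hS0 : S = ∅
        · exfalso
          rw [hS0, Finset.card_empty] at hkS
          exact CharBasic.IsIrr.one_ne_zero χ.2 (by rw [hχ1, hkS, Nat.cast_zero])
        obtain ⟨l, hl⟩ := Finset.nonempty_iff_ne_empty.2 hS0
        rw [hS, Finset.mem_filter] at hl
        have hl1 : l ≠ one := fun e => hl.2 (e ▸ hm1)
        have hpair : ∀ l₀, m χ l₀ ≠ 0 → l₀ ≠ one → (∀ n, tw n l₀ ≠ l') ∧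
            ∀ φ : Cfsg.IrrCharacter G, φ ≠ χ → φ ≠ ψ → m φ l₀ = m φ l' := by
          intro l₀ h0 h01
          have horb : ∀ n, tw n l₀ ≠ l' := fun n e => h0 (by
            have := hmtw χ n l₀
            rw [e, hl'0] at this
            exact this.symm)
          refine ⟨horb, fun φ h1 h2 => ?_⟩
          obtain ⟨hm01, -, hm02⟩ := huniq l₀ χ ψ hMχ h0 hMψ hψχ
          have h := key l₀ l' h01 hl'1 horb
          rw [← Finset.add_sum_erase _ _ (Finset.mem_univ χ),
            ← Finset.add_sum_erase _ _ (Finset.mem_erase.2 ⟨hψχ, Finset.mem_univ ψ⟩),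
            hm01, hl'0, hm02, hmψ1] at h
          have h3 : ∑ x ∈ (Finset.univ.erase χ).erase ψ, ((m x l₀ : ℤ) - m x l') ^ 2 = 0 := by
            norm_num at h ⊢
            linarith
          have h4 := (Finset.sum_eq_zero_iff_of_nonneg fun x _ => sq_nonneg _).1 h3 φ
            (Finset.mem_erase.2 ⟨h2, Finset.mem_erase.2 ⟨h1, Finset.mem_univ _⟩⟩)
          have h5 : (m φ l₀ : ℤ) = m φ l' := sub_eq_zero.1 (pow_eq_zero_iff two_ne_zero |>.1 h4)
          exact_mod_cast h5
        obtain ⟨-, hagree⟩ := hpair l hl.2 hl1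
        have horbit : S = Finset.univ.image fun n : ↥N => tw n l := by
          ext l₀
          simp only [hS, Finset.mem_filter, Finset.mem_univ, true_and, Finset.mem_image]
          constructor
          · intro h0
            by_contra hcon
            push Not at hcon
            have h01 : l₀ ≠ one := fun e => h0 (e ▸ hm1)
            obtain ⟨-, hagree₀⟩ := hpair l₀ h0 h01
            have h := key l l₀ hl1 h01 hcon
            rw [Finset.sum_eq_zero] at h
            · exact absurd h (by norm_num)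
            intro φ _
            obtain ⟨hA1, -, hA2⟩ := huniq l χ ψ hMχ hl.2 hMψ hψχ
            obtain ⟨hB1, -, hB2⟩ := huniq l₀ χ ψ hMχ h0 hMψ hψχ
            by_cases e1 : φ = χ
            · subst e1; rw [hA1, hB1, sub_self, zero_pow two_ne_zero]
            by_cases e2 : φ = ψ
            · subst e2; rw [hA2, hB2, sub_self, zero_pow two_ne_zero]
            rw [hagree φ e1 e2, hagree₀ φ e1 e2, sub_self, zero_pow two_ne_zero]
          · rintro ⟨n, rfl⟩
            rw [hmtw]; exact hl.2
        have hfib : ∀ l₀ ∈ S, (Finset.univ.filter fun n : ↥N => tw n l = l₀).card = a := by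
          intro l₀ h0
          rw [horbit, Finset.mem_image] at h0
          obtain ⟨n₀, -, rfl⟩ := h0
          rw [← Fintype.card_subtype, ← Nat.card_eq_fintype_card]
          have htw : ∀ p q : ↥N, tw q (tw p l) = tw (p * q) l := fun p q => Subtype.ext (funext fun h => by
            show (l : ↥H → ℂ) (cj p (cj q h)) = (l : ↥H → ℂ) (cj (p * q) h)
            refine congrArg (l : ↥H → ℂ) (Subtype.ext ?_)
            show (p : G) * ((q : G) * h * (q : G)⁻¹) * (p : G)⁻¹ =
              ((p * q : ↥N) : G) * h * ((p * q : ↥N) : G)⁻¹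
            simp [mul_assoc])
          refine Nat.card_congr
            { toFun := fun n => ⟨((n.1 * n₀⁻¹ : ↥N) : G), hfix _ l (by
                rw [← htw, n.2, htw, mul_inv_cancel]
                exact hfix' 1 l (one_mem H)) hl1⟩
              invFun := fun h => ⟨⟨h.1, le_normalizer h.2⟩ * n₀, by
                rw [← htw, hfix' _ l h.2]⟩
              left_inv := fun n => Subtype.ext (Subtype.ext (by simp))
              right_inv := fun h => Subtype.ext (by simp) }
        have hNcard : Nat.card ↥N = S.card * a := by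
          rw [Nat.card_eq_fintype_card, ← Finset.card_univ,
            Finset.card_eq_sum_card_fiberwise (f := fun n : ↥N => tw n l) (t := S)
              (fun n _ => by rw [horbit]; exact Finset.mem_image_of_mem _ (Finset.mem_univ n)),
            Finset.sum_congr rfl hfib, Finset.sum_const, smul_eq_mul]
        have hd : S.card ∣ Nat.card ↥K := by
          rw [← hHidx]
          refine dvd_trans (dvd_of_eq ?_) (relIndex_dvd_index_of_le (le_normalizer : H ≤ N))
          have h := (H.subgroupOf N).card_mul_index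
          rw [Nat.card_congr (subgroupOfEquivOfLe (le_normalizer : H ≤ N)).toEquiv, ← ha, hNcard,
            mul_comm S.card] at h
          exact (Nat.eq_of_mul_eq_mul_left Nat.card_pos h).symm
        rw [hkS]
        exact Nat.Coprime.coprime_dvd_left hd hcop.symm
    have hfr : Module.finrank ℂ (Fin k → ℂ) = k := by simp
    rcases burnside_zero_or_scalar ρ y (by rw [hfr]; exact hKidx.symm ▸ hkcop) with h0 | habs
    · rw [← hχρ]; exact h0
    exfalso
    obtain ⟨ω, hω⟩ := (CharBasic.norm_character_eq_iff ρ y).mp habs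
    rcases (inferInstance : (MonoidHom.ker ρ).Normal).eq_bot_or_eq_top with hb | ht
    · refine hy1 (mem_bot.1 (hZ ▸ mem_center_iff.2 fun x => ?_))
      apply (MonoidHom.ker_eq_bot_iff ρ).mp hb
      rw [map_mul, map_mul, hω]
      ext v
      simp
    · refine hχ (Subtype.ext ?_)
      have hconst : ∀ x, (χ : G → ℂ) x = (χ : G → ℂ) 1 := fun x => by
        have hx : ρ x = ρ 1 := by rw [map_one]; exact MonoidHom.mem_ker.1 (ht ▸ mem_top x)
        rw [← hχρ]; simp only [Representation.character, hx]
      have ho := classInner_irr χ.2 triv.2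
      by_contra hne'
      rw [if_neg hne', classInner_def] at ho
      simp only [triv, map_one, mul_one, hconst, Finset.sum_const, Finset.card_univ, nsmul_eq_mul,
        ← Nat.card_eq_fintype_card] at ho
      rw [← mul_assoc, inv_mul_cancel₀ (by exact_mod_cast Nat.card_pos.ne'), one_mul] at ho
      exact CharBasic.IsIrr.one_ne_zero χ.2 ho
  have hπy : π y = 1 := by
    rw [hMexp]
    simp only [Finset.sum_apply, Pi.smul_apply, smul_eq_mul]
    rw [Finset.sum_eq_single triv]
    · simp [hMtriv, triv]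
    · intro χ _ hχ
      by_cases hMχ : M χ = 0
      · simp [hMχ]
      · simp [hvanish χ hχ hMχ]
    · simp
  have hiso : ∀ x : G, x⁻¹ * y * x ∈ K → x ∈ K := by
    rw [hπv] at hπy
    have hc : Nat.card {x : G // x⁻¹ * y * x ∈ K} = Nat.card ↥K := by
      have h : (Nat.card {x : G // x⁻¹ * y * x ∈ K} : ℂ) = (Nat.card ↥K : ℂ) :=
        (inv_mul_eq_one₀ hK0).1 hπy |>.symm
      exact_mod_cast h
    let f : ↥K → {x : G // x⁻¹ * y * x ∈ K} := fun k =>
      ⟨k.1, K.mul_mem (K.mul_mem (K.inv_mem k.2) hyK) k.2⟩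
    have hf : Function.Injective f := fun p q h => Subtype.ext (Subtype.mk.inj h)
    intro x hx
    obtain ⟨k, hk⟩ := (hf.bijective_of_nat_card_le hc.le).2 ⟨x, hx⟩
    have : (k : G) = x := congrArg Subtype.val hk
    exact this ▸ k.2
  have h2a : ¬ 2 ∣ a := fun h => Nat.prime_two.not_dvd_one
    (hcop.gcd_eq_one ▸ Nat.dvd_gcd h (hy ▸ Subgroup.orderOf_dvd_natCard K hyK))
  obtain ⟨P, hP⟩ := exists_sylow_le_cz (show ¬ 2 ∣ sz y by rw [show sz y = a from hKidx]; exact h2a)
  obtain ⟨g, hg⟩ := exists_conj_mem_sylow (isQ_of_orderOf hy) P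
  have hgy : g * y * g⁻¹ = y := by
    have h1 : g⁻¹ ∈ K := hiso g⁻¹ (by rw [inv_inv]; exact hP hg)
    have h2 : Commute g y := by simpa using mem_cz.1 (K.inv_mem h1)
    rw [h2.eq, mul_inv_cancel_right]
  obtain ⟨L, hLn, hLodd, hL⟩ := S0215.result P y hy (hgy ▸ hg) fun x hx => by
    have h1 : x⁻¹ ∈ K := hiso x⁻¹ (by rw [inv_inv]; exact hP hx)
    have h2 : Commute x y := by simpa using mem_cz.1 (K.inv_mem h1)
    rw [h2.eq, mul_inv_cancel_right]
  have hLbot : L = ⊥ := hLn.eq_bot_or_eq_top.resolve_right fun h => by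
    rw [h, Subgroup.card_top] at hLodd
    exact Nat.not_even_iff_odd.2 hLodd (even_iff_two_dvd.2 (hy ▸ orderOf_dvd_natCard y))
  refine hy1 (mem_bot.1 (hZ ▸ mem_center_iff.2 fun x => ?_))
  have h := mem_bot.1 (hLbot ▸ hL x)
  exact (mul_inv_eq_iff_eq_mul.1 (mul_inv_eq_one.1 h)).symm

end Cfsg.Agent.H86.ClassSizes
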