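import Cfsg.Agent.H86.ClassSizes.TwoRegular
import Cfsg.Agent.S4146
import Cfsg.Agent.S0044

/-!
# Three class sizes, two of them comparable

The configuration of class sizes `a ∣ b`, `c` with `(a, c) = 1` in a nonsolvable group with trivial centre.
-/

set_option autoImplicit false
set_option linter.style.haveILetI false

namespace Cfsg.Agent.H86.ClassSizes

open Subgroup
open Cfsg.Agent.Hall.TwoSizes (IsQ)

universe u

variable {G : Type u} [Group G] [Finite G]

/-- The three class sizes `a ∣ b` and `c` prime to `a` of a nonsolvable group. -/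
structure Rank3 (G : Type u) [Group G] (a b c : ℕ) : Prop where
  hns : ¬ Group.IsSolvable G
  dvd : a ∣ b
  lt : a < b
  cop : a.Coprime c
  one_lt_a : 1 < a
  one_lt_c : 1 < c
  ne_mul : b ≠ a * c
  cases : ∀ x : G, x ≠ 1 → sz x = a ∨ sz x = b ∨ sz x = c
  exists_a : ∃ y : G, y ≠ 1 ∧ sz y = a
  exists_b : ∃ y : G, y ≠ 1 ∧ sz y = b
  exists_c : ∃ y : G, y ≠ 1 ∧ sz y = c

/-- With at most three sizes and two comparable centralisers the configuration arises. -/
theorem exists_rank3 (hns : ¬ Group.IsSolvable G) (hZ : center G = ⊥)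
    (h : Nat.card {n : ℕ | 1 < n ∧ ∃ x : G, sz x = n} ≤ 3) {x y : G} (hx : x ≠ 1) (hy : y ≠ 1)
    (hle : cz x ≤ cz y) (hne : cz x ≠ cz y) : ∃ a b c : ℕ, Rank3 G a b c := by
  classical
  set S := {n : ℕ | 1 < n ∧ ∃ x : G, sz x = n}
  have hmem : ∀ w : G, w ≠ 1 → sz w ∈ S := fun w hw => ⟨by
    have h0 : sz w ≠ 0 := index_ne_zero_of_finite
    have h1 : sz w ≠ 1 := fun e => hw (mem_bot.1 (hZ ▸ sz_eq_one_iff.1 e))
    omega, w, rfl⟩
  have hS : S.Finite := Set.Finite.subset (Set.finite_range (fun w : G => sz w))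
    (fun n hn => by obtain ⟨w, hw⟩ := hn.2; exact ⟨w, hw⟩)
  rw [Nat.card_coe_set_eq] at h
  have hdvd : sz y ∣ sz x := sz_dvd_of_le hle
  have hlt : sz y < sz x := lt_of_le_of_ne
    (Nat.le_of_dvd (Nat.pos_of_ne_zero index_ne_zero_of_finite) hdvd)
    fun e => hne (cz_eq_of_le hle (e ▸ dvd_rfl))
  have hay := (hmem y hy).1
  have hxG : ∀ q : ℕ, q.Prime → q ∣ Nat.card G → ∃ z : G, z ≠ 1 ∧ ¬ q ∣ sz z := by
    intro q hq hqG
    haveI : Fact q.Prime := ⟨hq⟩
    obtain ⟨P⟩ : Nonempty (Sylow q G) := inferInstance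
    obtain ⟨z, -, hz, hc⟩ := exists_central P hqG
    exact ⟨z, ne_one_of_orderOf_prime hq hz, not_dvd_sz hc⟩
  obtain ⟨q, hq, hqa⟩ := Nat.exists_prime_and_dvd (n := sz y) (by omega)
  obtain ⟨z, hz, hqz⟩ := hxG q hq (hqa.trans (index_dvd_card _))
  have hzy : sz z ≠ sz y := fun e => hqz (e ▸ hqa)
  have hzx : sz z ≠ sz x := fun e => hqz (e ▸ hqa.trans hdvd)
  have hsub : ({sz y, sz x, sz z} : Set ℕ) ⊆ S := by
    rintro n (rfl | rfl | rfl)
    exacts [hmem y hy, hmem x hx, hmem z hz]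
  have hcard : ({sz y, sz x, sz z} : Set ℕ).ncard = 3 :=
    Set.ncard_eq_three.2 ⟨_, _, _, hlt.ne, hzy.symm, hzx.symm, rfl⟩
  have heq := Set.eq_of_subset_of_ncard_le hsub (by omega) hS
  have hcases : ∀ w : G, w ≠ 1 → sz w = sz y ∨ sz w = sz x ∨ sz w = sz z := fun w hw => by
    have := hmem w hw
    rw [← heq] at this
    exact this
  have hcop : (sz y).Coprime (sz z) := by
    refine Nat.coprime_of_dvd fun r hr hry hrz => ?_
    obtain ⟨w, hw, hrw⟩ := hxG r hr (hry.trans (index_dvd_card _))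
    rcases hcases w hw with e | e | e
    · exact hrw (e ▸ hry)
    · exact hrw (e ▸ hry.trans hdvd)
    · exact hrw (e ▸ hrz)
  refine ⟨sz y, sz x, sz z, hns, hdvd, hlt, hcop, hay, (hmem z hz).1, fun e => hns ?_, hcases,
    ⟨y, hy, rfl⟩, ⟨x, hx, rfl⟩, ⟨z, hz, rfl⟩⟩
  have := (S4146.result (G := G) (sz y) (sz z) hay (hmem z hz).1 hcop (by
    rw [← e]
    ext n
    simp only [Set.mem_range, Set.mem_insert_iff, Set.mem_singleton_iff]
    constructor
    · rintro ⟨w, rfl⟩
      by_cases hw : w = 1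
      · exact Or.inl (sz_eq_one_iff.2 (hw ▸ one_mem _))
      · rcases hcases w hw with e' | e' | e'
        exacts [Or.inr (Or.inl e'), Or.inr (Or.inr (Or.inr e')), Or.inr (Or.inr (Or.inl e'))]
    · rintro (rfl | rfl | rfl | rfl)
      exacts [⟨1, sz_eq_one_iff.2 (one_mem _)⟩, ⟨y, rfl⟩, ⟨z, rfl⟩, ⟨x, rfl⟩])).1
  haveI := this
  infer_instance

namespace Rank3

variable {a b c : ℕ} (D : Rank3 G a b c)
include D

omit [Finite G] in
theorem b_pos : 0 < b := by have := D.lt; omega

omit [Finite G] in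
theorem ne_ab : a ≠ b := D.lt.ne

omit [Finite G] in
theorem not_a_dvd_c : ¬ a ∣ c := fun h => by
  have := D.cop.gcd_eq_one
  rw [Nat.gcd_eq_left h] at this
  have := D.one_lt_a
  omega

omit [Finite G] in
theorem not_b_dvd_c : ¬ b ∣ c := fun h => D.not_a_dvd_c (D.dvd.trans h)

omit [Finite G] in
theorem not_c_dvd_a : ¬ c ∣ a := fun h => by
  have := D.cop.symm.gcd_eq_one
  rw [Nat.gcd_eq_left h] at this
  have := D.one_lt_c
  omega

omit [Finite G] in
theorem not_b_dvd_a : ¬ b ∣ a := fun h => by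
  have := Nat.le_of_dvd (by have := D.one_lt_a; omega) h
  have := D.lt
  omega

omit [Finite G] in
theorem ne_ac : a ≠ c := fun e => D.not_a_dvd_c (e ▸ dvd_rfl)

omit [Finite G] in
theorem ne_bc : b ≠ c := fun e => D.not_b_dvd_c (e ▸ dvd_rfl)

omit [Finite G] in
theorem center_eq : center G = ⊥ := by
  rw [eq_bot_iff]
  intro x hx
  by_contra h
  have h1 := sz_eq_one_iff.2 hx
  have := D.one_lt_a; have := D.lt; have := D.one_lt_c
  rcases D.cases x (fun e => h (mem_bot.2 e)) with e | e | e <;> omega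

omit [Finite G] in
theorem sz_ne_one {x : G} (hx : x ≠ 1) : sz x ≠ 1 := fun e =>
  hx (mem_bot.1 (D.center_eq ▸ sz_eq_one_iff.1 e))

omit [Finite G] in
theorem eq_b {x : G} (hx : x ≠ 1) (h : b ∣ sz x) : sz x = b := by
  rcases D.cases x hx with e | e | e
  exacts [absurd (e ▸ h) D.not_b_dvd_a, e, absurd (e ▸ h) D.not_b_dvd_c]

omit [Finite G] in
theorem of_a_dvd {x : G} (hx : x ≠ 1) (h : a ∣ sz x) : sz x = a ∨ sz x = b := by
  rcases D.cases x hx with e | e | e
  exacts [Or.inl e, Or.inr e, absurd (e ▸ h) D.not_a_dvd_c]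

omit [Finite G] in
theorem of_c_dvd {x : G} (hx : x ≠ 1) (h : c ∣ sz x) : sz x = c ∨ sz x = b := by
  rcases D.cases x hx with e | e | e
  exacts [absurd (e ▸ h) D.not_c_dvd_a, Or.inr e, Or.inl e]

omit [Finite G] in
theorem eq_a {x : G} (hx : x ≠ 1) (h : sz x ∣ a) : sz x = a := by
  rcases D.cases x hx with e | e | e
  exacts [e, absurd (e ▸ h) D.not_b_dvd_a, absurd (e ▸ h) D.not_c_dvd_a]

omit [Finite G] in
theorem eq_c {x : G} (hx : x ≠ 1) (h : sz x ∣ c) : sz x = c := by
  rcases D.cases x hx with e | e | e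
  exacts [absurd (e ▸ h) D.not_a_dvd_c, absurd (e ▸ h) D.not_b_dvd_c, e]

theorem dvd_card_a : a ∣ Nat.card G := by
  obtain ⟨y, -, hy⟩ := D.exists_a
  exact hy ▸ index_dvd_card _

theorem dvd_card_b : b ∣ Nat.card G := by
  obtain ⟨y, -, hy⟩ := D.exists_b
  exact hy ▸ index_dvd_card _

theorem dvd_card_c : c ∣ Nat.card G := by
  obtain ⟨y, -, hy⟩ := D.exists_c
  exact hy ▸ index_dvd_card _

theorem b_lt_card : b < Nat.card G := by
  obtain ⟨x, hx, hxb⟩ := D.exists_b
  have h := (cz x).card_mul_index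
  rw [show (cz x).index = b from hxb] at h
  have h1 : 1 < Nat.card ↥(cz x) := Finite.one_lt_card_iff_nontrivial.2
    ⟨⟨⟨x, mem_cz.2 (Commute.refl x)⟩, 1, fun e => hx (congrArg Subtype.val e)⟩⟩
  rw [← h]
  exact lt_mul_left D.b_pos h1

/-- There is an element of prime order with class size `a`. -/
theorem exists_prime_a : ∃ s : ℕ, s.Prime ∧ ∃ y : G, orderOf y = s ∧ sz y = a := by
  obtain ⟨y, hy, hya⟩ := D.exists_a
  obtain ⟨q, hq, w, hw, hwq⟩ := exists_prime_pow_power hy
  exact ⟨q, hq, w, hwq, D.eq_a (ne_one_of_orderOf_prime hq hwq)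
    (hya ▸ sz_dvd_of_le (le_cz_of_mem_zpowers hw))⟩

/-- There is an element of prime order with class size `c`. -/
theorem exists_prime_c : ∃ s : ℕ, s.Prime ∧ ∃ y : G, orderOf y = s ∧ sz y = c := by
  obtain ⟨y, hy, hyc⟩ := D.exists_c
  obtain ⟨q, hq, w, hw, hwq⟩ := exists_prime_pow_power hy
  exact ⟨q, hq, w, hwq, D.eq_c (ne_one_of_orderOf_prime hq hwq)
    (hyc ▸ sz_dvd_of_le (le_cz_of_mem_zpowers hw))⟩

/-- Commuting elements of coprime orders do not have class sizes `a` and `c`. -/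
theorem not_commute {y z : G} (hy : sz y = a) (hz : sz z = c)
    (hco : (orderOf y).Coprime (orderOf z)) : ¬ Commute y z := by
  intro hc
  have h1 : sz (y * z) = a * c := by
    show (cz (y * z)).index = a * c
    rw [cz_mul hc hco, index_inf_of_coprime (by
      show (sz y).Coprime (sz z)
      rw [hy, hz]
      exact D.cop)]
    show sz y * sz z = a * c
    rw [hy, hz]
  have hne : y * z ≠ 1 := fun e => by
    have := sz_eq_one_iff.2 (e ▸ one_mem (center G) : y * z ∈ center G)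
    rw [h1] at this
    have := Nat.eq_one_of_mul_eq_one_right this
    have := D.one_lt_a
    omega
  rcases D.cases _ hne with e | e | e
  · exact D.not_c_dvd_a ⟨a, by rw [mul_comm, ← h1, e]⟩
  · exact D.ne_mul (e.symm.trans h1)
  · exact D.not_a_dvd_c ⟨c, by rw [← h1, e]⟩

/-- No conjugate of a `q`-element of class size `c` commutes with one of size `a` of coprime order. -/
theorem dvd_of_sz_a {s q : ℕ} (hs : s.Prime) (hq : q.Prime) (hsq : s ≠ q) {y z : G}
    (hy : IsQ s y) (hya : sz y = a) (hz : IsQ q z) (hzc : sz z = c) : q ∣ a := by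
  haveI : Fact q.Prime := ⟨hq⟩
  by_contra h
  obtain ⟨g, hg⟩ := exists_commute_conj (hya.symm ▸ h : ¬ q ∣ sz y) hz
  exact D.not_commute hya (by rw [sz_conj, hzc]) (hy.coprime hs hq hsq (hz.conj g)) hg.symm

/-- No conjugate of an `s`-element of class size `a` commutes with one of size `c` of coprime order. -/
theorem dvd_of_sz_c {s q : ℕ} (hs : s.Prime) (hq : q.Prime) (hsq : s ≠ q) {y z : G}
    (hy : IsQ s y) (hya : sz y = a) (hz : IsQ q z) (hzc : sz z = c) : s ∣ c := by
  haveI : Fact s.Prime := ⟨hs⟩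
  by_contra h
  obtain ⟨g, hg⟩ := exists_commute_conj (hzc.symm ▸ h : ¬ s ∣ sz z) hy
  exact D.not_commute (by rw [sz_conj, hya]) hzc ((hy.conj g).coprime hs hq hsq hz) hg

/-- Inside the centraliser of a `p`-element `x` the `p`-regular elements have sizes `1` and `b / sz x`. -/
theorem two_sizes_cz {p : ℕ} (hp : p.Prime) {x : G} (hx : IsQ p x) (hx1 : x ≠ 1) (w : ↥(cz x))
    (hw : (orderOf w).Coprime p) : sz w = 1 ∨ sz w = b / sz x := by
  have hcomm : Commute x (w : G) := (mem_cz.1 w.2).symm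
  have hco : (orderOf x).Coprime (orderOf (w : G)) := by
    rw [Subgroup.orderOf_coe]
    obtain ⟨i, hi⟩ := hx.orderOf_eq hp
    rw [hi]
    exact (hw.symm).pow_left i
  have hmap : cz w = (cz (w : G)).subgroupOf (cz x) := by
    ext v
    rw [mem_subgroupOf, mem_cz, mem_cz]
    exact ⟨fun h => congrArg Subtype.val h.eq, fun h => Subtype.ext h.eq⟩
  have h1 : sz w * sz x = sz (x * (w : G)) := by
    show (cz w).index * (cz x).index = (cz (x * (w : G))).index
    rw [hmap, cz_mul hcomm hco]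
    show (cz (w : G)).relIndex (cz x) * (cz x).index = _
    rw [← inf_relIndex_right, relIndex_mul_index inf_le_right, inf_comm]
  have hne : x * (w : G) ≠ 1 := fun e => by
    have h2 := sz_eq_one_iff.2 (e ▸ one_mem (center G) : x * (w : G) ∈ center G)
    rw [← h1] at h2
    exact D.sz_ne_one hx1 (Nat.eq_one_of_mul_eq_one_left h2)
  have hpos : 0 < sz x := Nat.pos_of_ne_zero index_ne_zero_of_finite
  rcases D.cases _ hne with e | e | e
  · refine Or.inl ((Nat.mul_eq_right hpos.ne').1 (h1.trans ?_))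
    rw [e, D.eq_a hx1 ⟨sz w, by rw [mul_comm, h1, e]⟩]
  · exact Or.inr (Nat.eq_div_of_mul_eq_left hpos.ne' (h1.trans e))
  · refine Or.inl ((Nat.mul_eq_right hpos.ne').1 (h1.trans ?_))
    rw [e, D.eq_c hx1 ⟨sz w, by rw [mul_comm, h1, e]⟩]

/-- Centralisers of non-identity elements are solvable. -/
theorem isSolvable_cz {x : G} (hx : x ≠ 1) : Group.IsSolvable ↥(cz x) := by
  obtain ⟨q, hq, w, hw, hwq⟩ := exists_prime_pow_power hx
  exact isSolvable_of_le (le_cz_of_mem_zpowers hw)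
    (isSolvable_of_two_regular hq (D.two_sizes_cz hq (isQ_of_orderOf hwq) (ne_one_of_orderOf_prime hq hwq)))

/-- Commuting elements of class sizes `a` and `c` lie in the radical. -/
theorem mem_rad_of_commute {y z : G} (hy : sz y = a) (hz : sz z = c) (hc : Commute y z) :
    y ∈ Rad G ∧ z ∈ Rad G := by
  have hy1 : y ≠ 1 := fun e => by
    have := sz_eq_one_iff.2 (e ▸ one_mem (center G) : y ∈ center G)
    have := D.one_lt_a
    omega
  have hz1 : z ≠ 1 := fun e => by
    have := sz_eq_one_iff.2 (e ▸ one_mem (center G) : z ∈ center G)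
    have := D.one_lt_c
    omega
  exact ⟨mem_rad_of_normalClosure_le (D.isSolvable_cz hz1)
      (normalClosure_le_cz hc (by rw [hy, hz]; exact D.cop.symm)),
    mem_rad_of_normalClosure_le (D.isSolvable_cz hy1)
      (normalClosure_le_cz hc.symm (by rw [hy, hz]; exact D.cop))⟩

theorem rad_ne_top : Rad G ≠ ⊤ := fun h => by
  haveI := isSolvable_rad (G := G)
  exact D.hns (Group.isSolvable_of_surjective (f := (Rad G).subtype) fun g =>
    ⟨⟨g, h ▸ mem_top g⟩, rfl⟩)

/-- A central element of a Sylow subgroup inside a nontrivial core. -/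
theorem exists_core_central {r : ℕ} [Fact r.Prime] (h : Cfsg.pCore r G ≠ ⊥) :
    ∃ v ∈ Cfsg.pCore r G, orderOf v = r ∧ ¬ r ∣ sz v := by
  obtain ⟨P⟩ : Nonempty (Sylow r G) := inferInstance
  obtain ⟨v, hv, -, hvr, hc⟩ := exists_central_mem P (Cfsg.pCore r G) (by
    rwa [inf_eq_left.2 (le_sylow_of_normal (Components.isPGroup_pCore r) P)])
  exact ⟨v, hv, hvr, not_dvd_sz hc⟩

theorem centralizer_core_le_rad {r : ℕ} [Fact r.Prime] (h : Cfsg.pCore r G ≠ ⊥) :
    centralizer (Cfsg.pCore r G : Set G) ≤ Rad G := by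
  obtain ⟨v, hv, hvr, -⟩ := D.exists_core_central h
  exact le_rad inferInstance (isSolvable_of_le
    (centralizer_le (Set.singleton_subset_iff.2 hv))
    (D.isSolvable_cz (ne_one_of_orderOf_prime Fact.out hvr)))

/-- If the class size of `x` is prime to `r`, then `x` centralises the `r`-core. -/
theorem mem_centralizer_core {r : ℕ} [Fact r.Prime] {x : G} (hx : ¬ r ∣ sz x) :
    x ∈ centralizer (Cfsg.pCore r G : Set G) := by
  obtain ⟨P, hP⟩ := exists_sylow_le_cz hx
  exact mem_centralizer_iff.2 fun u hu =>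
    (mem_cz.1 (hP (le_sylow_of_normal (Components.isPGroup_pCore r) P hu))).eq

theorem dvd_sz_of_not_mem_rad {r : ℕ} [Fact r.Prime] (h : Cfsg.pCore r G ≠ ⊥) {x : G}
    (hx : x ∉ Rad G) : r ∣ sz x := by
  by_contra hd
  exact hx (D.centralizer_core_le_rad h (D.mem_centralizer_core hd))

/-- An element centralising all the cores lies in the Fitting subgroup, once that is nontrivial. -/
theorem mem_fitting {r₀ : ℕ} [Fact r₀.Prime] (h₀ : Cfsg.pCore r₀ G ≠ ⊥) {x : G}
    (hx : ∀ r : ℕ, r.Prime → Cfsg.pCore r G ≠ ⊥ → x ∈ centralizer (Cfsg.pCore r G : Set G)) :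
    x ∈ Cfsg.fittingSubgroup G := by
  classical
  set F := Cfsg.fittingSubgroup G with hF
  set C := centralizer (F : Set G) with hC
  have hxC : x ∈ C := by
    have hle : F ≤ centralizer ({x} : Set G) := by
      rw [hF, Components.fitting_eq_iSup_pCore]
      refine iSup_le fun p => ?_
      intro u hu
      by_cases hb : Cfsg.pCore (p : ℕ) G = ⊥
      · rw [hb, mem_bot] at hu
        subst hu
        exact one_mem _
      · exact mem_cz.2 (mem_centralizer_iff.1 (hx p (Nat.prime_of_mem_primeFactors p.2) hb) u hu)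
    exact mem_centralizer_iff.2 fun u hu => mem_cz.1 (hle hu)
  haveI : Group.IsSolvable ↥C := isSolvable_of_le
    ((centralizer_le (show (Cfsg.pCore r₀ G : Set G) ⊆ F from Components.pCore_le_fitting r₀)).trans
      (D.centralizer_core_le_rad h₀)) isSolvable_rad
  have hmap := Components.fitting_subnormal (K := C) (Subgroup.Normal.isSubnormal inferInstance)
  have htop : centralizer (Cfsg.fittingSubgroup ↥C : Set ↥C) = ⊤ := by
    refine top_le_iff.1 fun w _ => mem_centralizer_iff.2 fun u hu => Subtype.ext ?_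
    have hu' : (u : G) ∈ F ⊓ C := hmap ▸ ⟨u, hu, rfl⟩
    exact mem_centralizer_iff.1 w.2 _ hu'.1
  have h2 : (⟨x, hxC⟩ : ↥C) ∈ Cfsg.fittingSubgroup ↥C :=
    S0044.result (htop ▸ mem_top _)
  have h3 : x ∈ F ⊓ C := hmap ▸ ⟨⟨x, hxC⟩, h2, rfl⟩
  exact h3.1

end Rank3

end Cfsg.Agent.H86.ClassSizes
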