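import Cfsg.Agent.H86.ClassSizes.RadicalA
import Cfsg.Agent.H86.ClassSizes.Core
import Cfsg.Agent.H65.CIT.Independent
import Cfsg.Agent.H79.Kazarin
import Cfsg.Agent.S4160
import Cfsg.Agent.S0033

/-!
# Comparable centralisers with trivial solvable radical

The centralisers of elements of size `c` are abelian CC Hall subgroups; a minimal normal subgroup is simple and
contains an involution with a centraliser complementing such a subgroup.
-/

set_option autoImplicit false
set_option linter.style.haveILetI false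
set_option linter.unusedSectionVars false

namespace Cfsg.Agent.H86.ClassSizes

open Subgroup
open Cfsg.Agent.Hall.TwoSizes (IsQ)

universe u

variable {G : Type u} [Group G] [Finite G]

theorem exists_minimal_normal [Nontrivial G] : ∃ T : Subgroup G, T.Normal ∧ T ≠ ⊥ ∧
    ∀ S : Subgroup G, S.Normal → S ≤ T → S ≠ ⊥ → S = T := by
  obtain ⟨T, hT⟩ := (Set.toFinite {S : Subgroup G | S.Normal ∧ S ≠ ⊥}).exists_minimal
    ⟨⊤, inferInstance, top_ne_bot⟩
  exact ⟨T, hT.1.1, hT.1.2, fun S hS hle hne => le_antisymm hle (hT.2 ⟨hS, hne⟩ hle)⟩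

namespace Rank3

variable {a b c : ℕ} (D : Rank3 G a b c)

include D in
/-- The configuration with the roles of `a` and `c` exchanged, when `c` divides `b` as well. -/
theorem symm (hcb : c ∣ b) : Rank3 G c b a where
  hns := D.hns
  dvd := hcb
  lt := lt_of_le_of_ne (Nat.le_of_dvd D.b_pos hcb) D.ne_bc.symm
  cop := D.cop.symm
  one_lt_a := D.one_lt_c
  one_lt_c := D.one_lt_a
  ne_mul := by rw [mul_comm]; exact D.ne_mul
  cases x hx := by
    rcases D.cases x hx with e | e | e
    exacts [Or.inr (Or.inr e), Or.inr (Or.inl e), Or.inl e]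
  exists_a := D.exists_c
  exists_b := D.exists_b
  exists_c := D.exists_a

variable (hR : Rad G = ⊥)
include D hR

theorem not_commute_of_rad {y z : G} (hy : sz y = a) (hz : sz z = c) : ¬ Commute y z := fun h => by
  have h1 := (D.mem_rad_of_commute hy hz h).1
  rw [hR, mem_bot] at h1
  rw [h1, sz_eq_one_iff.2 (one_mem (center G))] at hy
  have := D.one_lt_a
  omega

theorem not_a_dvd_primePow {q k : ℕ} (hq : q.Prime) : ¬ a ∣ q ^ k := fun h => by
  obtain ⟨y, hy1, hy⟩ := D.exists_a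
  have h1 := mem_rad_of_sz_primePow (x := y) hq (hy ▸ h)
  rw [hR, mem_bot] at h1
  exact hy1 h1

/-- The prime of a prime power element of class size `c` divides `a`. -/
theorem dvd_a_of_sz_c {q : ℕ} (hq : q.Prime) {z : G} (hz : IsQ q z) (hzc : sz z = c) : q ∣ a := by
  haveI : Fact q.Prime := ⟨hq⟩
  by_contra h
  obtain ⟨y, -, hy⟩ := D.exists_a
  obtain ⟨g, hg⟩ := exists_commute_conj (hy.symm ▸ h : ¬ q ∣ sz y) hz
  exact D.not_commute_of_rad hR hy ((sz_conj g z).trans hzc) hg.symm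

/-- If `c ∣ b`, every prime divisor of the centraliser of an element of size `c` divides `a`. -/
theorem side (hcb : c ∣ b) {p : ℕ} (hp : p.Prime) {z : G} (hz : orderOf z = p) (hzc : sz z = c)
    {q : ℕ} (hq : q.Prime) (hqd : q ∣ Nat.card ↥(cz z)) : q ∣ a := by
  have hzQ := isQ_of_orderOf hz
  have hpa := D.dvd_a_of_sz_c hR hp hzQ hzc
  by_cases hqp : q = p
  · exact hqp ▸ hpa
  haveI : Fact q.Prime := ⟨hq⟩
  obtain ⟨w, hw⟩ := exists_prime_orderOf_dvd_card' q hqd
  have hw' : orderOf (w : G) = q := by rw [Subgroup.orderOf_coe]; exact hw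
  have hw1 := ne_one_of_orderOf_prime hq hw'
  have hz1 := ne_one_of_orderOf_prime hp hz
  have hcm : Commute z (w : G) := (mem_cz.1 w.2).symm
  have hco : (orderOf z).Coprime (orderOf (w : G)) := by
    rw [hz, hw']; exact (Nat.coprime_primes hp hq).2 (Ne.symm hqp)
  have hne1 : z * (w : G) ≠ 1 := fun e => hz1 (by
    have h := mem_zpowers_mul hcm hco
    rwa [e, zpowers_one_eq_bot, mem_bot] at h)
  rcases D.of_c_dvd hne1 (hzc ▸ sz_dvd_of_le (cz_mul_le_left hcm hco)) with e | e
  · exact D.dvd_a_of_sz_c hR hq (isQ_of_orderOf hw')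
      (D.eq_c hw1 (e ▸ sz_dvd_of_le (cz_mul_le_right hcm hco)))
  · have hwc : w ∉ center ↥(cz z) := by
      intro hwc
      have hle : cz z ≤ cz (w : G) := fun g hg =>
        mem_cz.2 (congrArg Subtype.val (mem_center_iff.1 hwc ⟨g, hg⟩))
      have h1 : sz (z * (w : G)) = sz z := congrArg Subgroup.index
        ((cz_mul hcm hco).trans (inf_eq_left.2 hle))
      exact D.ne_bc (e.symm.trans (h1.trans hzc))
    have hwp : (orderOf w).Coprime p := by rw [hw]; exact (Nat.coprime_primes hq hp).2 hqp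
    have hsizes := D.two_sizes_cz hp hzQ hz1
    rw [hzc] at hsizes
    have hadvd : a ∣ b / c := by
      obtain ⟨k, hk⟩ := D.cop.mul_dvd_of_dvd_of_dvd D.dvd hcb
      refine ⟨k, ?_⟩
      rw [hk, show a * c * k = a * k * c by ring, Nat.mul_div_cancel _ (by have := D.one_lt_c; omega)]
    rcases two_regular_cases hp hsizes with hall | ⟨-, k, hk⟩ | ⟨q', N, i, j, hq', -, -, hm, -, hcen⟩
    · exact absurd (hall w hwp) hwc
    · exact absurd (hk ▸ hadvd) (D.not_a_dvd_primePow hR hp)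
    · have hqq : q = q' := by
        by_contra h
        exact hwc (hcen q hq hqp h w (isQ_of_orderOf hw))
      subst hqq
      by_contra hqa
      exact D.not_a_dvd_primePow hR hp
        ((((hq.coprime_iff_not_dvd.2 hqa).symm).pow_right j).dvd_of_dvd_mul_right (hadvd.trans hm))

/-- It is impossible that `c` divides `b`. -/
theorem false_of_c_dvd (hcb : c ∣ b) : False := by
  have hR' : Rad G = ⊥ := hR
  obtain ⟨p, hp, z, hz, hzc⟩ := D.exists_prime_c
  obtain ⟨s, hs, y, hy, hya⟩ := D.exists_prime_a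
  have h1 : Nat.card ↥(cz z) * c = Nat.card G := hzc ▸ (cz z).card_mul_index
  have h2 : Nat.card ↥(cz y) * a = Nat.card G := hya ▸ (cz y).card_mul_index
  have hH : Nat.card ↥(cz z) = a := by
    refine Nat.dvd_antisymm ?_ (D.cop.dvd_of_dvd_mul_right (h1 ▸ D.dvd_card_a))
    refine (Nat.Coprime.dvd_mul_left ?_).1 (⟨c, by rw [h2, h1]⟩ : Nat.card ↥(cz z) ∣ Nat.card ↥(cz y) * a)
    exact Nat.coprime_of_dvd fun q hq h3 h4 => hq.not_dvd_one (D.cop.gcd_eq_one ▸
      Nat.dvd_gcd (D.side hR hcb hp hz hzc hq h3) ((D.symm hcb).side hR' D.dvd hs hy hya hq h4))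
  have h3 := Nat.le_of_dvd D.b_pos (D.cop.mul_dvd_of_dvd_of_dvd D.dvd hcb)
  have := D.b_lt_card
  rw [← h1, hH] at this
  omega

theorem false_of_rad_eq_bot : False := by
  classical
  have hcb : ¬ c ∣ b := fun h => D.false_of_c_dvd hR h
  have ha1 := D.one_lt_a
  have hc1 := D.one_lt_c
  obtain ⟨p, hp, z, hz, hzc⟩ := D.exists_prime_c
  obtain ⟨y, hy1, hya⟩ := D.exists_a
  set H := cz z with hH
  set K := cz y with hK
  have hzQ := isQ_of_orderOf hz
  have hz1 := ne_one_of_orderOf_prime hp hz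
  have hzH : z ∈ H := mem_cz.2 (Commute.refl z)
  have hHc : Nat.card ↥H * c = Nat.card G := hzc ▸ H.card_mul_index
  have hKa : Nat.card ↥K * a = Nat.card G := hya ▸ K.card_mul_index
  -- other primes in the centraliser of an element of size `c`
  have hcen : ∀ (p₀ : ℕ) (z₀ : G), p₀.Prime → orderOf z₀ = p₀ → sz z₀ = c → cz z₀ = H →
      ∀ q : ℕ, q.Prime → q ≠ p₀ → ∀ w ∈ H, IsQ q w → w ≠ 1 → sz w = c ∧ cz w = H := by
    intro p₀ z₀ hp₀ hz₀ hz₀c hz₀H q hq hqp w hw hwQ hw1
    have hcm : Commute z₀ w := (mem_cz.1 (hz₀H.symm ▸ hw : w ∈ cz z₀)).symm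
    have hco : (orderOf z₀).Coprime (orderOf w) :=
      (isQ_of_orderOf hz₀).coprime hp₀ hq (Ne.symm hqp) hwQ
    have hne1 : z₀ * w ≠ 1 := fun e => ne_one_of_orderOf_prime hp₀ hz₀ (by
      have h := mem_zpowers_mul hcm hco
      rwa [e, zpowers_one_eq_bot, mem_bot] at h)
    have hzw : sz (z₀ * w) = c :=
      (D.of_c_dvd hne1 (hz₀c ▸ sz_dvd_of_le (cz_mul_le_left hcm hco))).resolve_right
        fun e => hcb (by rw [← e, ← hz₀c]; exact sz_dvd_of_le (cz_mul_le_left hcm hco))
    have heq : cz (z₀ * w) = H :=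
      (cz_eq_of_le (cz_mul_le_left hcm hco) (hzw.trans hz₀c.symm).dvd).trans hz₀H
    have hle : H ≤ cz w := heq ▸ cz_mul_le_right hcm hco
    have hwc : sz w = c := D.eq_c hw1 (hzc ▸ sz_dvd_of_le hle)
    exact ⟨hwc, (cz_eq_of_le hle (hzc.trans hwc.symm).dvd).symm⟩
  have haH : a ∣ Nat.card ↥H := D.cop.dvd_of_dvd_mul_right (hHc ▸ D.dvd_card_a)
  obtain ⟨q₀, hq₀, hq₀a, hq₀p⟩ : ∃ q : ℕ, q.Prime ∧ q ∣ a ∧ q ≠ p := by
    by_contra hcon
    push Not at hcon
    exact D.not_a_dvd_primePow hR hp (k := a.primeFactorsList.length) (dvd_of_eq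
      (Nat.eq_prime_pow_of_unique_prime_dvd (by omega) fun {d} hd hda => hcon d hd hda))
  haveI : Fact q₀.Prime := ⟨hq₀⟩
  obtain ⟨w₀, hw₀⟩ := exists_prime_orderOf_dvd_card' q₀ (hq₀a.trans haH)
  rw [← Subgroup.orderOf_coe] at hw₀
  obtain ⟨hw₀c, hw₀H⟩ := hcen p z hp hz hzc rfl q₀ hq₀ hq₀p w₀ w₀.2 (isQ_of_orderOf hw₀)
    (ne_one_of_orderOf_prime hq₀ hw₀)
  have hpp : ∀ q : ℕ, q.Prime → ∀ w ∈ H, IsQ q w → w ≠ 1 → sz w = c ∧ cz w = H := by
    intro q hq w hw hwQ hw1
    by_cases hqp : q = p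
    · exact hcen q₀ w₀ hq₀ hw₀ hw₀c hw₀H q hq (hqp ▸ Ne.symm hq₀p) w hw hwQ hw1
    · exact hcen p z hp hz hzc rfl q hq hqp w hw hwQ hw1
  have hcomm : ∀ x ∈ H, ∀ w ∈ H, Commute x w := by
    intro x hx
    have hle : H ≤ cz x := le_of_forall_isQ fun q hq w hw hwQ => by
      by_cases hw1 : w = 1
      · exact hw1 ▸ one_mem _
      · exact mem_cz.2 (mem_cz.1 ((hpp q hq w hw hwQ hw1).2.symm ▸ hx : x ∈ cz w)).symm
    exact fun w hw => (mem_cz.1 (hle hw)).symm
  have hHa : ∀ q : ℕ, q.Prime → q ∣ Nat.card ↥H → q ∣ a := by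
    intro q hq hqd
    haveI : Fact q.Prime := ⟨hq⟩
    obtain ⟨w, hw⟩ := exists_prime_orderOf_dvd_card' q hqd
    rw [← Subgroup.orderOf_coe] at hw
    exact D.dvd_a_of_sz_c hR hq (isQ_of_orderOf hw)
      (hpp q hq w w.2 (isQ_of_orderOf hw) (ne_one_of_orderOf_prime hq hw)).1
  have hHcop : (Nat.card ↥H).Coprime c := Nat.coprime_of_dvd fun q hq h1 h2 =>
    hq.not_dvd_one (D.cop.gcd_eq_one ▸ Nat.dvd_gcd (hHa q hq h1) h2)
  have hCC : CC H := ⟨hcomm, fun h hh h1 => by
    obtain ⟨q, hq, w, hw, hwq⟩ := exists_prime_pow_power h1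
    exact le_antisymm ((le_cz_of_mem_zpowers hw).trans_eq
      (hpp q hq w (zpowers_le.2 hh hw) (isQ_of_orderOf hwq) (ne_one_of_orderOf_prime hq hwq)).2)
      fun g hg => mem_cz.2 (hcomm g hg h hh), by rw [show H.index = c from hzc]; exact hHcop⟩
  have hKq : ∀ q : ℕ, q.Prime → q ∣ a → ¬ q ∣ Nat.card ↥K := by
    intro q hq hqa hd
    haveI : Fact q.Prime := ⟨hq⟩
    obtain ⟨u, hu⟩ := exists_prime_orderOf_dvd_card' q hd
    rw [← Subgroup.orderOf_coe] at hu
    obtain ⟨g, hg⟩ := hCC.exists_conj_mem (hqa.trans haH) (isQ_of_orderOf hu)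
    have h1 := (hpp q hq _ hg ((isQ_of_orderOf hu).conj g)
      (fun e => ne_one_of_orderOf_prime hq hu (conj_eq_one_iff.1 e))).1
    rw [sz_conj] at h1
    exact D.not_commute_of_rad hR hya h1 (mem_cz.1 u.2).symm
  have hHcard : Nat.card ↥H = a := by
    refine Nat.dvd_antisymm ?_ haH
    exact (Nat.coprime_of_dvd fun q hq h1 h2 => hKq q hq (hHa q hq h1) h2).dvd_mul_left.1
      (⟨c, by rw [hKa, hHc]⟩ : Nat.card ↥H ∣ Nat.card ↥K * a)
  have hGac : Nat.card G = a * c := by rw [← hHc, hHcard]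
  have hnosolv : ∀ N : Subgroup G, N.Normal → Group.IsSolvable ↥N → N = ⊥ := fun N hN hs =>
    le_bot_iff.1 (hR ▸ le_rad hN hs)
  -- every nontrivial normal subgroup meets `H`
  have hmeet : ∀ N : Subgroup G, N.Normal → N ≠ ⊥ → ∃ h ∈ N, h ∈ H ∧ h ≠ 1 := by
    intro N hN hNne
    by_contra hcon
    push Not at hcon
    haveI := hN
    have hle : ∀ M : Subgroup G, M.Normal → (∀ m ∈ M, m ∈ H → m = 1) → M ≤ K := by
      intro M hM hMH
      haveI := hM
      rw [← relIndex_eq_one]
      have hco : (Nat.card ↥M).Coprime a := Nat.coprime_of_dvd fun q hq h1 h2 => by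
        haveI : Fact q.Prime := ⟨hq⟩
        obtain ⟨u, hu⟩ := exists_prime_orderOf_dvd_card' q h1
        rw [← Subgroup.orderOf_coe] at hu
        obtain ⟨g, hg⟩ := hCC.exists_conj_mem (h2.trans haH) (isQ_of_orderOf hu)
        exact ne_one_of_orderOf_prime hq hu
          (conj_eq_one_iff.1 (hMH _ (hM.conj_mem _ u.2 g) hg))
      exact Nat.eq_one_of_dvd_coprimes hco (relIndex_dvd_card K M)
        (hya ▸ H79.Kazarin.relIndex_dvd_index K M)
    have hNK := hle N hN hcon
    set C₀ := centralizer (N : Set G) with hC₀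
    have hyC : y ∈ C₀ := mem_centralizer_iff.2 fun n hn => (mem_cz.1 (hNK hn)).eq
    have hC₀H : ∀ h ∈ C₀, h ∈ H → h = 1 := by
      intro h hh hhH
      by_contra h1
      refine hNne (eq_bot_iff.2 fun n hn => mem_bot.2 (hcon n hn ?_))
      exact hCC.mem_of_commute hhH h1 (mem_centralizer_iff.1 hh n hn)
    have hC₀K := hle C₀ inferInstance hC₀H
    set Z₀ := (center ↥C₀).map C₀.subtype
    have hZs : Group.IsSolvable ↥Z₀ := Group.isSolvable_of_comm fun u v => Subtype.ext (by
      obtain ⟨u', hu', hu''⟩ := u.2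
      obtain ⟨v', hv', hv''⟩ := v.2
      show (u : G) * v = v * u
      rw [← hu'', ← hv'']
      exact congrArg Subtype.val (mem_center_iff.1 hv' u'))
    have hyZ : y ∈ Z₀ := ⟨⟨y, hyC⟩, mem_center_iff.2 fun w =>
      Subtype.ext (mem_cz.1 (hC₀K w.2)).eq, rfl⟩
    rw [hnosolv Z₀ inferInstance hZs, mem_bot] at hyZ
    exact hy1 hyZ
  haveI : Nontrivial G := ⟨⟨y, 1, hy1⟩⟩
  obtain ⟨T, hTn, hTne, hTmin⟩ := exists_minimal_normal (G := G)
  haveI := hTn
  have hTns : ¬ Group.IsSolvable ↥T := fun h => hTne (hnosolv T hTn h)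
  have hTF : ∀ M : Subgroup ↥T, M.Normal → Group.IsNilpotent ↥M → M = ⊥ := by
    intro M hM hMn
    have h1 := Components.normal_nilpotent_le_fitting hM hMn
    haveI : Group.IsNilpotent ↥(Cfsg.fittingSubgroup ↥T) := Components.fitting_isNilpotent
    have h2 := hnosolv ((Cfsg.fittingSubgroup ↥T).map T.subtype) inferInstance (by
      haveI := Components.map_fitting_isNilpotent T
      infer_instance)
    rw [map_eq_bot_iff_of_injective _ T.subtype_injective] at h2
    exact le_bot_iff.1 (h2 ▸ h1)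
  obtain ⟨h₀, hh₀T, hh₀H, hh₀1⟩ := hmeet T hTn hTne
  haveI : Nontrivial ↥T := (nontrivial_iff_ne_bot T).2 hTne
  have hTsimp : IsSimpleGroup ↥T := by
    constructor
    intro M hM
    by_contra hcon
    push Not at hcon
    obtain ⟨hMne, hMtop⟩ := hcon
    obtain ⟨M₁, hM₁⟩ := (Set.toFinite {S : Subgroup ↥T | S.Normal ∧ S ≠ ⊥ ∧ S ≠ ⊤}).exists_minimal
      ⟨M, hM, hMne, hMtop⟩
    obtain ⟨⟨hn1, hne1, htop1⟩, hmin1⟩ := hM₁
    haveI := hn1
    obtain ⟨g, hg⟩ : ∃ g : G, M₁.map (MulAut.conjNormal g : ↥T ≃* ↥T).toMonoidHom ≠ M₁ := by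
      by_contra hcon
      push Not at hcon
      have hn : (M₁.map T.subtype).Normal := ⟨by
        rintro _ ⟨m, hm, rfl⟩ g
        refine ⟨MulAut.conjNormal g m, ?_, MulAut.conjNormal_apply g m⟩
        have h := mem_map_of_mem (MulAut.conjNormal g : ↥T ≃* ↥T).toMonoidHom hm
        rw [hcon g] at h
        exact h⟩
      have h := hTmin _ hn (map_subtype_le _)
        (fun e => hne1 ((map_eq_bot_iff_of_injective _ T.subtype_injective).1 e))
      refine htop1 (eq_top_iff.2 fun t _ => ?_)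
      obtain ⟨m, hm, e⟩ := (h.symm ▸ t.2 : (t : G) ∈ M₁.map T.subtype)
      exact Subtype.ext e ▸ hm
    set M₂ := M₁.map (MulAut.conjNormal g : ↥T ≃* ↥T).toMonoidHom with hM₂
    haveI hn2 : M₂.Normal := hn1.map _ (MulEquiv.surjective _)
    have hdisj : M₁ ⊓ M₂ = ⊥ := by
      by_contra h
      have h1 : M₁ ≤ M₁ ⊓ M₂ := hmin1 ⟨inferInstance, h,
        fun e => htop1 (top_le_iff.1 (e ▸ inf_le_left))⟩ inf_le_left
      refine hg (eq_of_le_of_card_ge (h1.trans inf_le_right) ?_).symm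
      rw [hM₂, card_map_of_injective (MulEquiv.injective _)]
    have hcm := Subgroup.commute_of_normal_of_disjoint M₁ M₂ hn1 hn2 (disjoint_iff.2 hdisj)
    obtain ⟨h, hh, hhH, hh1⟩ : ∃ h : ↥T, h ∈ M₁ ∧ (h : G) ∈ H ∧ h ≠ 1 := by
      by_contra hcon
      push Not at hcon
      obtain ⟨q, hq, w, hw, hwq⟩ := exists_prime_pow_power hh₀1
      have hwH : w ∈ H := zpowers_le.2 hh₀H hw
      have hw1 := ne_one_of_orderOf_prime hq hwq
      set wT : ↥T := ⟨w, zpowers_le.2 hh₀T hw⟩
      have hfix : ∀ n : ↥M₁, MulAut.conjNormal wT n = n → n = 1 := fun n hn => by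
        have h1 : w * ((n : ↥T) : G) * w⁻¹ = ((n : ↥T) : G) := by
          have := congrArg (fun v : ↥M₁ => ((v : ↥T) : G)) hn
          simpa [MulAut.conjNormal_apply] using this
        exact Subtype.ext (hcon n n.2
          (hCC.mem_of_commute hwH hw1 (mul_inv_eq_iff_eq_mul.1 h1).symm))
      refine hne1 (hTF M₁ hn1 ?_)
      haveI := Fact.mk hq
      refine S0033.result (MulAut.conjNormal wT : ↥M₁ ≃* ↥M₁) (fun n hn => hfix n hn) q hq ?_
      refine orderOf_eq_prime ?_ fun e => hne1 (eq_bot_iff.2 fun n hn => ?_)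
      · rw [← map_pow, show wT ^ q = 1 from Subtype.ext
          (by show w ^ q = 1; rw [← hwq, pow_orderOf_eq_one]), map_one]
      · have := hfix ⟨n, hn⟩ (by rw [e]; rfl)
        exact mem_bot.2 (congrArg Subtype.val this)
    have hM₂H : ∀ m ∈ M₂, (m : G) ∈ H := fun m hm =>
      hCC.mem_of_commute hhH (fun e => hh1 (Subtype.ext e))
        (congrArg Subtype.val (hcm h m hh hm).eq.symm)
    have hM₂n : Group.IsNilpotent ↥M₂ := by
      letI : CommGroup ↥M₂ := { (inferInstance : Group ↥M₂) with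
        mul_comm := fun u v => Subtype.ext (Subtype.ext (hcomm _ (hM₂H u u.2) _ (hM₂H v v.2)).eq) }
      exact CommGroup.isNilpotent
    have h2 := hTF M₂ hn2 hM₂n
    rw [hM₂, map_eq_bot_iff_of_injective _ (MulEquiv.injective _)] at h2
    exact hne1 h2
  haveI := hTsimp
  have hTna : ∃ u v : ↥T, u * v ≠ v * u := by
    by_contra hcon
    push Not at hcon
    exact hTns (Group.isSolvable_of_comm hcon)
  set H₀ := H.subgroupOf T with hH₀
  have hczT : ∀ t : ↥T, cz t = (cz (t : G)).subgroupOf T := fun t => by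
    ext v
    rw [mem_subgroupOf, mem_cz, mem_cz]
    exact ⟨fun h => congrArg Subtype.val h.eq, fun h => Subtype.ext h.eq⟩
  have hH₀card : Nat.card ↥H₀ ∣ a := by
    rw [← hHcard]
    refine (dvd_of_eq ?_).trans (card_dvd_of_le
      (show H₀.map T.subtype ≤ H by rintro _ ⟨u, hu, rfl⟩; exact hu))
    exact (card_map_of_injective T.subtype_injective).symm
  have hH₀idx : H₀.index ∣ c := hzc ▸ H79.Kazarin.relIndex_dvd_index H T
  have hCC₀ : CC H₀ := by
    refine ⟨fun u hu v hv => Subtype.ext (hcomm _ hu _ hv).eq, fun h hh h1 => ?_,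
      (D.cop.coprime_dvd_left hH₀card).coprime_dvd_right hH₀idx⟩
    rw [hczT, hCC.cz_eq (h : G) hh fun e => h1 (Subtype.ext e)]
  have hH₀ne : H₀ ≠ ⊥ := fun e => by
    have h : (⟨h₀, hh₀T⟩ : ↥T) ∈ H₀ := hh₀H
    rw [e, mem_bot] at h
    exact hh₀1 (congrArg Subtype.val h)
  have h2T : 2 ∣ Nat.card ↥T := even_iff_two_dvd.1 (Nat.not_odd_iff_even.1 fun h =>
    hTns (S0205.result h))
  haveI : Fact (Nat.Prime 2) := ⟨Nat.prime_two⟩
  by_cases h2a : 2 ∣ a
  · -- a frame in `T`
    obtain ⟨t, ht⟩ := exists_prime_orderOf_dvd_card' 2 h2T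
    have ht' : orderOf (t : G) = 2 := by rw [Subgroup.orderOf_coe]; exact ht
    obtain ⟨g, hg⟩ := hCC.exists_conj_mem (h2a.trans haH) (isQ_of_orderOf ht')
    set t₀ : ↥T := ⟨g * (t : G) * g⁻¹, hTn.conj_mem _ t.2 g⟩ with ht₀def
    have ht₀H : t₀ ∈ H₀ := hg
    have ht₀ : orderOf t₀ = 2 := by
      rw [← Subgroup.orderOf_coe]
      exact (H65.orderOf_conj' g (t : G)).trans ht'
    have hcz₀ : cz t₀ = H₀ := hCC₀.cz_eq t₀ ht₀H (ne_one_of_orderOf_prime Nat.prime_two ht₀)
    have h2H₀ : 2 ∣ Nat.card ↥H₀ := ht₀ ▸ Subgroup.orderOf_dvd_natCard H₀ ht₀H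
    obtain ⟨S, hS⟩ := CC.exists_sylow_le hCC₀.cop h2H₀
    have e0 : Subgroup.centralizer ({t₀} : Set ↥T) = H₀ := hcz₀
    let F : H65.CIT.Frame ↥T :=
      { z := t₀
        hz := ht₀
        hS := ⟨S, by rw [e0]; exact hS⟩
        cc := fun x hx hx1 => by
          rw [e0] at hx ⊢
          exact (hCC₀.cz_eq x hx hx1).le
        ti := fun x hx hx1 v hv => by
          rw [e0] at hx hv ⊢
          exact hCC₀.mem_normalizer_of_conj hx hx1 hv
        not_normal := by
          rw [e0]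
          intro h
          rcases (normalizer_eq_top_iff.1 h).eq_bot_or_eq_top with h' | h'
          · exact hH₀ne h'
          · obtain ⟨u, v, huv⟩ := hTna
            exact huv (hCC₀.comm u (h' ▸ mem_top u) v (h' ▸ mem_top v)).eq
        invol_le := fun u hu huN => by
          rw [e0] at huN ⊢
          exact hCC₀.mem_of_normalizer Nat.prime_two h2H₀ (isQ_of_orderOf hu) huN
        odd_core := fun M hM hModd => (hM.eq_bot_or_eq_top).resolve_right fun h => by
          rw [h, Subgroup.card_top] at hModd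
          exact Nat.not_even_iff_odd.2 hModd (even_iff_two_dvd.2 h2T) }
    have hH₀2 : IsPGroup 2 ↥H₀ := hcz₀ ▸ F.isPGroup_M
    obtain ⟨q, hq, hqa, hq2⟩ : ∃ q : ℕ, q.Prime ∧ q ∣ a ∧ q ≠ 2 := by
      by_contra hcon
      push Not at hcon
      exact D.not_a_dvd_primePow hR Nat.prime_two (k := a.primeFactorsList.length) (dvd_of_eq
        (Nat.eq_prime_pow_of_unique_prime_dvd (by omega) fun {d} hd hda => hcon d hd hda))
    haveI : Fact q.Prime := ⟨hq⟩
    obtain ⟨w, hw⟩ := exists_prime_orderOf_dvd_card' q (hqa.trans haH)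
    have hw' : orderOf (w : G) = q := by rw [Subgroup.orderOf_coe]; exact hw
    have hw1 := ne_one_of_orderOf_prime hq hw'
    have hNle : normalizer (H₀ : Set ↥T) ≤ H₀ := by
      intro v hv
      set m : G := (v : G)⁻¹ * ((w : G) * (v : G) * (w : G)⁻¹) with hm
      have hmT : m ∈ T := T.mul_mem (T.inv_mem v.2) (hTn.conj_mem _ v.2 (w : G))
      have ht₀1 : (t₀ : G) ≠ 1 := fun e => ne_one_of_orderOf_prime Nat.prime_two ht₀ (Subtype.ext e)
      set u : G := (v : G) * (t₀ : G) * (v : G)⁻¹ with hu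
      have huH : u ∈ H := (mem_normalizer_iff.1 hv t₀).1 ht₀H
      have hwt : (w : G)⁻¹ * (t₀ : G) * (w : G) = t₀ := by
        rw [mul_assoc, (hcomm (t₀ : G) ht₀H _ w.2).eq, inv_mul_cancel_left]
      have hwu : (w : G) * u * (w : G)⁻¹ = u := by
        rw [(hcomm _ w.2 _ huH).eq, mul_inv_cancel_right]
      have hmt : Commute m (t₀ : G) := by
        show m * t₀ = t₀ * m
        have e1 : m * (t₀ : G) * m⁻¹ = t₀ := by
          calc m * (t₀ : G) * m⁻¹ = (v : G)⁻¹ * ((w : G) * ((v : G) * ((w : G)⁻¹ * t₀ * w) *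
                (v : G)⁻¹) * (w : G)⁻¹) * v := by rw [hm]; group
            _ = (v : G)⁻¹ * u * v := by rw [hwt, ← hu, hwu]
            _ = t₀ := by rw [hu]; group
        exact mul_inv_eq_iff_eq_mul.1 e1
      have hmH : m ∈ H := hCC.mem_of_commute ht₀H ht₀1 hmt
      have hm2 : IsQ 2 m := by
        obtain ⟨i, hi⟩ := IsQ.of_mem hH₀2 (show (⟨m, hmT⟩ : ↥T) ∈ H₀ from hmH)
        exact ⟨i, congrArg Subtype.val hi⟩
      have hcmw : Commute (w : G) m := hcomm _ w.2 _ hmH
      have hpow : ∀ i : ℕ, (w : G) ^ i * (v : G) * ((w : G) ^ i)⁻¹ = (v : G) * m ^ i := by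
        intro i
        induction i with
        | zero => simp
        | succ i ih =>
          rw [pow_succ', mul_inv_rev,
            show (w : G) * (w : G) ^ i * (v : G) * (((w : G) ^ i)⁻¹ * (w : G)⁻¹) =
              (w : G) * ((w : G) ^ i * (v : G) * ((w : G) ^ i)⁻¹) * (w : G)⁻¹ by group, ih,
            show (w : G) * ((v : G) * m ^ i) * (w : G)⁻¹ =
              (w : G) * (v : G) * (w : G)⁻¹ * ((w : G) * m ^ i * (w : G)⁻¹) by group,
            (hcmw.pow_right i).eq, mul_inv_cancel_right,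
            show (w : G) * (v : G) * (w : G)⁻¹ = (v : G) * m by rw [hm]; group, mul_assoc,
            ← pow_succ']
      have hmq : m ^ q = 1 := by
        have := hpow q
        rw [show (w : G) ^ q = 1 by rw [← hw', pow_orderOf_eq_one], one_mul, inv_one, mul_one] at this
        exact left_eq_mul.1 this
      have hm1 : m = 1 := hm2.eq_one Nat.prime_two hq (Ne.symm hq2) (n := 1) (by rwa [pow_one])
      have hvw : Commute (v : G) (w : G) := by
        have := hpow 1
        rw [pow_one, hm1, one_pow, mul_one] at this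
        exact (mul_inv_eq_iff_eq_mul.1 this).symm
      exact hCC.mem_of_commute w.2 hw1 hvw
    obtain ⟨N, hN, hcompl⟩ := S0087.result H₀ hCC₀.cop (hNle.trans fun u hu =>
      mem_centralizer_iff.2 fun v hv => (hCC₀.comm v hv u hu).eq)
    rcases hN.eq_bot_or_eq_top with e | e
    · obtain ⟨u, v, huv⟩ := hTna
      have htop : H₀ = ⊤ := by
        have h := hcompl.sup_eq_top
        rwa [e, bot_sup_eq] at h
      exact huv (hCC₀.comm u (htop ▸ mem_top u) v (htop ▸ mem_top v)).eq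
    · have h := hcompl.disjoint
      rw [e, top_disjoint] at h
      exact hH₀ne h
  · -- an involution of `T` of class size `a`
    have h2c : 2 ∣ c := (Nat.prime_two.dvd_mul.1
      (hGac ▸ h2T.trans T.card_subgroup_dvd_card)).resolve_left h2a
    have h2b : 2 ∣ b := by
      by_contra h2b
      have hnormal : ∀ q : ℕ, q.Prime → q ∣ a → Cfsg.HasNormalPComplement q G := by
        intro q hq hqa
        haveI : Fact q.Prime := ⟨hq⟩
        have hq2 : q ≠ 2 := fun e => h2a (e ▸ hqa)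
        refine (S4160.result q 2 hq Nat.prime_two hq2 ⟨y, (show q ∣ sz y by rw [hya]; exact hqa)⟩
          ⟨z, (show 2 ∣ sz z by rw [hzc]; exact h2c)⟩ fun x hx => ?_).resolve_right ?_
        · by_cases hx1 : x = 1
          · have h1 : sz x = 1 := sz_eq_one_iff.2 (hx1 ▸ one_mem _)
            have hx' : q * 2 ∣ 1 := h1 ▸ hx
            have := Nat.le_of_dvd Nat.one_pos hx'
            have := hq.two_le
            omega
          · rcases D.cases x hx1 with e | e | e
            · exact h2a (e ▸ dvd_trans (dvd_mul_left 2 q) hx)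
            · exact h2b (e ▸ dvd_trans (dvd_mul_left 2 q) hx)
            · exact hq.not_dvd_one (D.cop.gcd_eq_one ▸
                Nat.dvd_gcd hqa (e ▸ dvd_trans (dvd_mul_right q 2) hx))
        · rintro ⟨P, N, hN, hcompl⟩
          haveI := hN
          have hodd : Odd (Nat.card ↥N) := by
            rw [← Nat.not_even_iff_odd, even_iff_two_dvd]
            intro h2
            apply P.not_dvd_index
            rw [hcompl.index_eq_card]
            exact h2
          have hNbot := hnosolv N hN (S0205.result hodd)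
          have htop : (P : Subgroup G) = ⊤ := by
            have h := hcompl.sup_eq_top
            rwa [hNbot, bot_sup_eq] at h
          haveI : Group.IsNilpotent ↥(P : Subgroup G) := P.2.isNilpotent
          exact D.hns (Group.isSolvable_of_surjective (f := (P : Subgroup G).subtype)
            fun g => ⟨⟨g, htop.symm ▸ mem_top g⟩, rfl⟩)
      obtain ⟨q, hq, w, hw, hwq⟩ := exists_prime_pow_power hh₀1
      haveI : Fact q.Prime := ⟨hq⟩
      have hqa : q ∣ a := hHa q hq (hwq ▸ Subgroup.orderOf_dvd_natCard _ (zpowers_le.2 hh₀H hw))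
      obtain ⟨P, N, hN, hcompl⟩ := hnormal q hq hqa
      haveI := hN
      by_cases hTN : T ≤ N
      · apply P.not_dvd_index
        rw [hcompl.index_eq_card]
        exact (hwq ▸ Subgroup.orderOf_dvd_natCard T (zpowers_le.2 hh₀T hw)).trans
          (card_dvd_of_le hTN)
      · have hTN' : T ⊓ N = ⊥ := by
          by_contra h
          exact hTN (inf_eq_left.1 (hTmin _ inferInstance inf_le_left h))
        refine hTns ?_
        haveI : Group.IsNilpotent ↥(P : Subgroup G) := P.2.isNilpotent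
        haveI : Group.IsSolvable (G ⧸ N) := Group.isSolvable_of_surjective
          (f := (hcompl.symm.QuotientMulEquiv).symm.toMonoidHom) (MulEquiv.surjective _)
        refine Group.isSolvable_of_isSolvable_injective (f := (QuotientGroup.mk' N).comp T.subtype) ?_
        rw [← MonoidHom.ker_eq_bot_iff, eq_bot_iff]
        intro u hu
        have h1 : (u : G) ∈ T ⊓ N := ⟨u.2, (QuotientGroup.eq_one_iff _).1 hu⟩
        rw [hTN', mem_bot] at h1
        exact mem_bot.2 (Subtype.ext h1)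
    obtain ⟨S⟩ : Nonempty (Sylow 2 G) := inferInstance
    obtain ⟨t, ht⟩ := exists_prime_orderOf_dvd_card' 2 h2T
    rw [← Subgroup.orderOf_coe] at ht
    obtain ⟨g, hg⟩ := exists_conj_mem_sylow (isQ_of_orderOf ht) S
    obtain ⟨y', hy'T, -, hy', hy'c⟩ := exists_central_mem S T (fun e => by
      have h : g * (t : G) * g⁻¹ ∈ T ⊓ (S : Subgroup G) := ⟨hTn.conj_mem _ t.2 g, hg⟩
      rw [e, mem_bot] at h
      exact ne_one_of_orderOf_prime Nat.prime_two ht (conj_eq_one_iff.1 h))
    have hy'a : sz y' = a := by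
      rcases D.cases y' (ne_one_of_orderOf_prime Nat.prime_two hy') with e | e | e
      exacts [e, absurd (e ▸ h2b) (not_dvd_sz hy'c), absurd (e ▸ h2c) (not_dvd_sz hy'c)]
    set K' := cz y'
    have hK'c : Nat.card ↥K' = c := by
      have h := K'.card_mul_index
      rw [show K'.index = a from hy'a, hGac, mul_comm a] at h
      exact Nat.eq_of_mul_eq_mul_right (by omega : 0 < a) h
    set yT : ↥T := ⟨y', hy'T⟩
    letI := Fintype.ofFinite ↥T
    refine false_core (G := ↥T) hTna hCC₀ hH₀ne (y := yT)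
      (by rw [← Subgroup.orderOf_coe]; exact hy') ?_
    rw [hczT]
    set K₀ := K'.subgroupOf T
    have hK₀card : Nat.card ↥K₀ ∣ c := by
      rw [← hK'c]
      refine (dvd_of_eq ?_).trans (card_dvd_of_le
        (show K₀.map T.subtype ≤ K' by rintro _ ⟨u, hu, rfl⟩; exact hu))
      exact (card_map_of_injective T.subtype_injective).symm
    have hK₀idx : K₀.index ∣ a := hy'a ▸ H79.Kazarin.relIndex_dvd_index K' T
    have h1 : Nat.card ↥H₀ * H₀.index = Nat.card ↥K₀ * K₀.index := by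
      rw [H₀.card_mul_index, K₀.card_mul_index]
    have heq : Nat.card ↥H₀ = K₀.index := by
      refine Nat.dvd_antisymm ?_ ?_
      · exact ((D.cop.coprime_dvd_left hH₀card).coprime_dvd_right hK₀card).dvd_mul_left.1
          ⟨H₀.index, h1.symm⟩
      · exact ((D.cop.coprime_dvd_left hK₀idx).coprime_dvd_right hH₀idx).dvd_mul_right.1
          ⟨Nat.card ↥K₀, by rw [h1, mul_comm]⟩
    rw [heq]
    exact K₀.card_mul_index

end Rank3

end Cfsg.Agent.H86.ClassSizes
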