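import Cfsg.Agent.H86.ClassSizes.Basic
import Cfsg.Agent.H86.PrimeGraph.Recog
import Cfsg.Agent.H86.PrimeGraph.PSLGraph
import Cfsg.Agent.H65.CIT.NonSolvable
import Cfsg.Agent.S0205

/-!
# No centraliser properly contained in another

A nonsolvable group with this property is `PSL(2, 2^n)`.
-/

set_option autoImplicit false
set_option linter.style.haveILetI false

namespace Cfsg.Agent.H86.ClassSizes

open Subgroup
open Cfsg.Agent.H65
open Cfsg.Agent.Hall.TwoSizes (IsQ)

universe u

variable {G : Type u} [Group G] [Finite G]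

/-- No centraliser of a non-identity element lies properly in another. -/
def Free (G : Type u) [Group G] : Prop :=
  ∀ x y : G, x ≠ 1 → y ≠ 1 → cz x ≤ cz y → cz x = cz y

theorem Free.isNilpotent_cz (hF : Free G) {g : G} (hg : g ≠ 1) : Group.IsNilpotent ↥(cz g) := by
  obtain ⟨p, hp, x, hx, hxp⟩ := exists_prime_pow_power hg
  have hx1 := ne_one_of_orderOf_prime hp hxp
  rw [hF g x hg hx1 (le_cz_of_mem_zpowers hx)]
  haveI : Fact p.Prime := ⟨hp⟩
  have hcen : ∀ w : ↥(cz x), (orderOf w).Coprime p → w ∈ center ↥(cz x) := by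
    intro w hw
    by_cases hw1 : (w : G) = 1
    · rw [show w = 1 from Subtype.ext hw1]
      exact one_mem _
    have hc : Commute x (w : G) := (mem_cz.1 w.2).symm
    have hco : (orderOf x).Coprime (orderOf (w : G)) := by
      rw [hxp, Subgroup.orderOf_coe]
      exact hw.symm
    have hne : x * (w : G) ≠ 1 := fun e => hx1 (by
      have h := mem_zpowers_mul hc hco
      rwa [e, zpowers_one_eq_bot, mem_bot] at h)
    have heq : cz x = cz (w : G) :=
      (hF _ _ hne hx1 (cz_mul_le_left hc hco)).symm.trans (hF _ _ hne hw1 (cz_mul_le_right hc hco))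
    exact mem_center_iff.2 fun u => Subtype.ext (mem_cz.1 (heq ▸ u.2 : (u : G) ∈ cz (w : G))).eq
  have hP : IsPGroup p (↥(cz x) ⧸ center ↥(cz x)) := fun v => by
    induction v using QuotientGroup.induction_on with | _ g => ?_
    obtain ⟨e, j, hj, hnj⟩ := Nat.exists_eq_pow_mul_and_not_dvd (orderOf_pos g).ne' p hp.ne_one
    refine ⟨e, (QuotientGroup.eq_one_iff _).2 (hcen _ ?_)⟩
    rw [orderOf_pow, hnj, Nat.gcd_eq_right (dvd_mul_right _ _),
      Nat.mul_div_cancel_left _ (pow_pos hp.pos _)]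
    exact (hp.coprime_iff_not_dvd.2 hj).symm
  exact Group.of_quotient_center_nilpotent hP.isNilpotent

theorem Free.exists_psl (hF : Free G) (hns : ¬ Group.IsSolvable G) :
    ∃ n : ℕ, 2 ≤ n ∧
      Nonempty (G ≃* Matrix.ProjectiveSpecialLinearGroup (Fin 2) (GaloisField 2 n)) := by
  classical
  haveI : Fact (Nat.Prime 2) := ⟨Nat.prime_two⟩
  have hC : CIT.CIT G := CIT.cit_of_cn_nonsolvable hns fun g hg => hF.isNilpotent_cz hg
  have hev : Even (Nat.card G) := CIT.even_of_not_solvable hns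
  -- centralisers of 2-elements are Sylow subgroups
  have hsyl : ∀ t : G, t ≠ 1 → IsQ 2 t → ∃ T : Sylow 2 G, cz t = (T : Subgroup G) := by
    intro t ht hq
    obtain ⟨k, hk⟩ := hq
    obtain ⟨T, hT⟩ := (hC.isPGroup_centralizer ht hk).exists_le_sylow
    obtain ⟨z, hzT, hz, hzc⟩ := exists_central T (even_iff_two_dvd.1 hev)
    have hz1 := ne_one_of_orderOf_prime Nat.prime_two hz
    have h : cz t = cz z := hF t z ht hz1 fun w hw =>
      mem_cz.2 (mem_cz.1 (hzc (hT hw)))
    exact ⟨T, le_antisymm hT (hzc.trans h.symm.le)⟩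
  have hO : Cfsg.pCore 2 G = ⊥ := by
    by_contra hne
    obtain ⟨n, hn, hn1⟩ := (Cfsg.pCore 2 G).bot_or_exists_ne_one.resolve_left hne
    have hN2 := Components.isPGroup_pCore (G := G) 2
    obtain ⟨T, hT⟩ := hsyl n hn1 (IsQ.of_mem hN2 hn)
    have hall : ∀ S : Sylow 2 G, S = T := fun S => by
      refine Sylow.ext (eq_of_le_of_card_ge ?_ (by rw [S.card_eq_multiplicity, T.card_eq_multiplicity]))
      intro s hs
      by_cases hs1 : s = 1
      · exact hs1 ▸ one_mem _
      obtain ⟨S', hS'⟩ := hsyl s hs1 (IsQ.of_mem S.2 hs)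
      rw [← hT]
      exact mem_cz.2 (mem_cz.1 (hS'.symm ▸ le_sylow_of_normal hN2 S' hn : n ∈ cz s)).symm
    haveI : Subsingleton (Sylow 2 G) := ⟨fun A B => (hall A).trans (hall B).symm⟩
    haveI := T.normal_of_subsingleton
    haveI : Group.IsNilpotent ↥(T : Subgroup G) := T.2.isNilpotent
    refine hns ((Group.isSolvable_iff_subgroup_quotient (T : Subgroup G)).2 ⟨inferInstance,
      S0205.result ?_⟩)
    rw [← index_eq_card, ← Nat.not_even_iff_odd, even_iff_two_dvd]
    exact T.not_dvd_index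
  have hTI : ∀ S T : Sylow 2 G, S ≠ T → (S : Subgroup G) ⊓ (T : Subgroup G) = ⊥ := by
    by_contra hTI
    push Not at hTI
    have hL := CIT.loc_of hC hO
    obtain ⟨A⟩ := hL.exists_amalgam hTI
    obtain ⟨x, hxT, hx1, hx2⟩ : ∃ x ∈ A.T, x ∉ A.P₁ ∧ x ∉ A.P₂ := by
      by_contra hcon
      push Not at hcon
      obtain ⟨u, huT, hu⟩ := SetLike.exists_of_lt (lt_of_le_of_ne A.le₁ fun e => by
        have h1 := A.cardT
        have h2 := A.cardP₁
        rw [← e, h2] at h1
        exact absurd (Nat.pow_right_injective A.two_le h1) (by norm_num))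
      obtain ⟨w, hwT, hw⟩ := SetLike.exists_of_lt (lt_of_le_of_ne A.le₂ fun e => by
        have h1 := A.cardT
        have h2 := A.cardP₂
        rw [← e, h2] at h1
        exact absurd (Nat.pow_right_injective A.two_le h1) (by norm_num))
      have hu2 := hcon u huT hu
      have hw1 : w ∈ A.P₁ := by_contra fun h => hw (hcon w hwT h)
      have huw := A.T.mul_mem huT hwT
      by_cases h : u * w ∈ A.P₁
      · exact hu (by simpa using A.P₁.mul_mem h (A.P₁.inv_mem hw1))
      · exact hw (by simpa using A.P₂.mul_mem (A.P₂.inv_mem hu2) (hcon _ huw h))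
    have hxx : x * x ≠ 1 := fun e => (A.invol_mem hxT e).elim hx1 hx2
    have hxne : x ≠ 1 := fun e => hx1 (e ▸ one_mem _)
    have heq : cz x = cz (x * x) := hF x _ hxne hxx
      (le_cz_of_mem_zpowers (mul_mem (mem_zpowers x) (mem_zpowers x)))
    refine hx1 (hL.cent_le A.h₁ fun p hp => ?_)
    have hcomm : Commute p (x * x) := by
      have hsq := A.sq₁ x hxT
      have e1 := A.ex₁ p hp
      have e2 := A.ex₁ _ hsq
      have e3 := A.ex₁ _ (A.P₁.mul_mem hp hsq)
      show p * (x * x) = x * x * p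
      calc p * (x * x) = (p * (x * x))⁻¹ := eq_inv_of_mul_eq_one_left e3
        _ = (x * x)⁻¹ * p⁻¹ := mul_inv_rev _ _
        _ = x * x * p := by rw [← eq_inv_of_mul_eq_one_left e2, ← eq_inv_of_mul_eq_one_left e1]
    exact (mem_cz.1 (heq.symm ▸ mem_cz.2 hcomm : p ∈ cz x)).symm
  obtain ⟨F, hsimp⟩ := PrimeGraph.exists_frame_of_ti hC hns hO hTI
  haveI := hsimp
  have hM : ∀ a ∈ F.M, ∀ b ∈ F.M, a * b = b * a := by
    intro a ha b hb
    by_cases hb1 : b = 1
    · rw [hb1, mul_one, one_mul]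
    obtain ⟨q, hq, v, hv, hvq⟩ := exists_prime_pow_power hb1
    have hv1 := ne_one_of_orderOf_prime hq hvq
    have hvM : v ∈ F.M := zpowers_le.2 hb hv
    have hq2 : q = 2 := by
      by_contra h
      obtain ⟨k, hk⟩ := IsQ.of_mem F.isPGroup_M hvM
      exact hv1 ((isQ_of_orderOf hvq).eq_one hq Nat.prime_two h hk)
    have heq : cz b = cz v := hF b v hb1 hv1 (le_cz_of_mem_zpowers hv)
    exact (mem_cz.1 (heq.symm ▸ mem_cz.2 ((F.mem_M_iff_commute (hvq.trans hq2) hvM).1 ha) :
      a ∈ cz b)).eq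
  have hG : ∃ a b : G, a * b ≠ b * a := by
    by_contra hcon
    push Not at hcon
    exact hns (Group.isSolvable_of_comm hcon)
  rcases CIT.classification_of_ti hG hC hTI hev with h | hS
  · exact h
  · exfalso
    obtain ⟨a, ha, b, hb, hab⟩ := PrimeGraph.frame_nonabelian F (PrimeGraph.three_not_dvd_suzuki hS)
    exact hab (hM a ha b hb)

end Cfsg.Agent.H86.ClassSizes
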