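import Cfsg.Agent.H86.ClassSizes.FittingFree
import Cfsg.Agent.H86.ClassSizes.Free

/-!
# Centreless groups with at most three non-trivial class sizes
-/

set_option autoImplicit false
set_option linter.style.haveILetI false

namespace Cfsg.Agent.H86.ClassSizes

open Subgroup

universe u

variable {G : Type u} [Group G] [Finite G]

theorem exists_core_ne_bot (h : Rad G ≠ ⊥) : ∃ r : ℕ, r.Prime ∧ Cfsg.pCore r G ≠ ⊥ := by
  by_contra hcon
  push Not at hcon
  have hF : Cfsg.fittingSubgroup G = ⊥ := by
    rw [Components.fitting_eq_iSup_pCore, eq_bot_iff]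
    exact iSup_le fun p => (hcon p (Nat.prime_of_mem_primeFactors p.2)).le
  haveI := isSolvable_rad (G := G)
  have hmap := Components.fitting_subnormal (K := Rad G) (Subgroup.Normal.isSubnormal inferInstance)
  rw [hF, bot_inf_eq, map_eq_bot_iff_of_injective _ (Rad G).subtype_injective] at hmap
  have hc := S0044.result (G := ↥(Rad G))
  rw [hmap] at hc
  refine h (eq_bot_iff.2 fun x hx => ?_)
  have h1 : (⟨x, hx⟩ : ↥(Rad G)) ∈ centralizer (((⊥ : Subgroup ↥(Rad G))) : Set ↥(Rad G)) :=
    mem_centralizer_iff.2 fun u hu => by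
      rw [SetLike.mem_coe, mem_bot] at hu
      rw [hu, one_mul, mul_one]
  exact mem_bot.2 (congrArg Subtype.val (mem_bot.1 (hc h1)))

/-- The configuration of comparable centralisers is impossible. -/
theorem Rank3.elim {a b c : ℕ} (D : Rank3 G a b c) : False := by
  classical
  by_cases hR : Rad G = ⊥
  · exact D.false_of_rad_eq_bot hR
  obtain ⟨r, hr, hne⟩ := exists_core_ne_bot hR
  haveI : Fact r.Prime := ⟨hr⟩
  refine D.false_of_all_a (fun t ht htne => ?_) hne
  haveI : Fact t.Prime := ⟨ht⟩
  obtain ⟨v, hv, hvt, hvd⟩ := D.exists_core_central htne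
  rcases D.cases v (ne_one_of_orderOf_prime ht hvt) with e | e | e
  · exact ⟨e ▸ hvd, v, hv, hvt, e⟩
  · exact absurd (D.false_core_b hv hvt hvd e) id
  · exact absurd (D.false_core_c hv hvt (e ▸ hvd) e) id

/-- A centreless nonsolvable group with at most three non-trivial class sizes is `PSL(2, 2^n)`. -/
theorem exists_psl_of_three_sizes (hns : ¬ Group.IsSolvable G) (hZ : center G = ⊥)
    (h : Nat.card {n : ℕ | 1 < n ∧ ∃ x : G, sz x = n} ≤ 3) :
    ∃ n : ℕ, 2 ≤ n ∧
      Nonempty (G ≃* Matrix.ProjectiveSpecialLinearGroup (Fin 2) (GaloisField 2 n)) := by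
  by_cases hF : Free G
  · exact hF.exists_psl hns
  · simp only [Free, not_forall] at hF
    obtain ⟨x, y, hx, hy, hle, hne⟩ := hF
    obtain ⟨a, b, c, D⟩ := exists_rank3 hns hZ h hx hy hle hne
    exact D.elim.elim

end Cfsg.Agent.H86.ClassSizes
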