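import Cfsg.Agent.H86.ClassSizes.RadicalC
import Cfsg.Agent.H86.ClassSizes.CC
import Cfsg.Agent.S0033
import Cfsg.Agent.S0041
import Cfsg.Agent.S0058
import Cfsg.Agent.S0087

/-!
# All cores have central elements of class size `a`

Then the centraliser of an element of size `c` is an abelian CC Hall subgroup and this leads to a contradiction.
-/

set_option autoImplicit false
set_option linter.style.haveILetI false
set_option linter.unusedSectionVars false

namespace Cfsg.Agent.H86.ClassSizes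

open Subgroup
open Cfsg.Agent.Hall.TwoSizes (IsQ)

universe u

variable {G : Type u} [Group G] [Finite G]

theorem mem_pCore_of_mem_fitting {q : ℕ} [Fact q.Prime] {u : G}
    (hu : u ∈ Cfsg.fittingSubgroup G) (hq : IsQ q u) : u ∈ Cfsg.pCore q G := by
  set F := Cfsg.fittingSubgroup G
  haveI : F.Normal := Components.fitting_normal
  have hp : IsPGroup q ↥(zpowers (⟨u, hu⟩ : ↥F)) := isPGroup_zpowers_of_isQ (by
    obtain ⟨k, hk⟩ := hq
    exact ⟨k, Subtype.ext (by simpa using hk)⟩)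
  obtain ⟨P, hP⟩ := hp.exists_le_sylow
  haveI hn : (P : Subgroup ↥F).Normal :=
    ((Group.isNilpotent_of_finite_tfae (G := ↥F)).out 0 3 rfl rfl).mp Components.fitting_isNilpotent
      q inferInstance P
  haveI : (P : Subgroup ↥F).Characteristic := P.characteristic_of_normal hn
  exact Components.le_pCore inferInstance (P.2.map F.subtype) ⟨⟨u, hu⟩, hP (mem_zpowers _), rfl⟩

namespace Rank3

variable {a b c : ℕ} (D : Rank3 G a b c)
include D

/-- A normal subgroup meeting a CC subgroup trivially lies in the Fitting subgroup. -/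
theorem le_fitting_of_inf_eq_bot {H : Subgroup G} (hH : CC H) (hne : H ≠ ⊥) {N : Subgroup G}
    [N.Normal] (h : N ⊓ H = ⊥) : N ≤ Cfsg.fittingSubgroup G := by
  obtain ⟨h₀, hh₀, hne₀⟩ := H.bot_or_exists_ne_one.resolve_left hne
  obtain ⟨q, hq, w, hw, hwq⟩ := exists_prime_pow_power hne₀
  have hwH : w ∈ H := zpowers_le.2 hh₀ hw
  have hw1 := ne_one_of_orderOf_prime hq hwq
  by_cases hN : N = ⊥
  · rw [hN]; exact bot_le
  have hfix : ∀ n : ↥N, MulAut.conjNormal w n = n → n = 1 := fun n hn => by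
    have h1 : w * (n : G) * w⁻¹ = n := by
      rw [← MulAut.conjNormal_apply, hn]
    have h2 : (n : G) ∈ N ⊓ H :=
      ⟨n.2, hH.mem_of_commute hwH hw1 (mul_inv_eq_iff_eq_mul.1 h1).symm⟩
    rw [h, mem_bot] at h2
    exact Subtype.ext h2
  refine Components.normal_nilpotent_le_fitting inferInstance
    (S0033.result (MulAut.conjNormal w : ↥N ≃* ↥N) (fun n hn => hfix n hn) q hq ?_)
  haveI := Fact.mk hq
  refine orderOf_eq_prime ?_ fun e => hN (eq_bot_iff.2 fun n hn => ?_)
  · rw [← map_pow, ← hwq, pow_orderOf_eq_one, map_one]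
  · have := hfix ⟨n, hn⟩ (by rw [e]; rfl)
    exact mem_bot.2 (congrArg Subtype.val this)

variable (hA : ∀ t : ℕ, t.Prime → Cfsg.pCore t G ≠ ⊥ →
  ¬ t ∣ a ∧ ∃ v ∈ Cfsg.pCore t G, orderOf v = t ∧ sz v = a)
include hA

theorem core_eq_bot_of_dvd_a {p : ℕ} (hp : p.Prime) (hpa : p ∣ a) : Cfsg.pCore p G = ⊥ :=
  by_contra fun h => (hA p hp h).1 hpa

/-- Elements of prime power order outside the Fitting subgroup do not have class size `a`. -/
theorem sz_ne_a {r : ℕ} [Fact r.Prime] (hr : Cfsg.pCore r G ≠ ⊥) {x : G}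
    (hx : x ∉ Cfsg.fittingSubgroup G) : sz x ≠ a := fun e =>
  hx (D.mem_fitting hr fun t ht htne => by
    haveI : Fact t.Prime := ⟨ht⟩
    exact D.mem_centralizer_core (e.symm ▸ (hA t ht htne).1))

theorem false_of_all_a {r : ℕ} [Fact r.Prime] (hr : Cfsg.pCore r G ≠ ⊥) : False := by
  classical
  have hrp : r.Prime := Fact.out
  set F := Cfsg.fittingSubgroup G with hF
  haveI : F.Normal := Components.fitting_normal
  obtain ⟨-, v, hv, hvr, hva⟩ := hA r hrp hr
  have ha1 := D.one_lt_a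
  -- a central element of order `p` for a prime divisor of `a`
  have hzc : ∀ p : ℕ, p.Prime → p ∣ a → ∃ z : G, orderOf z = p ∧ sz z = c := by
    intro p hp hpa
    haveI : Fact p.Prime := ⟨hp⟩
    obtain ⟨P⟩ : Nonempty (Sylow p G) := inferInstance
    obtain ⟨z, -, hz, hzc⟩ := exists_central P (hpa.trans D.dvd_card_a)
    refine ⟨z, hz, ?_⟩
    rcases D.cases z (ne_one_of_orderOf_prime hp hz) with e | e | e
    exacts [absurd (e ▸ hpa) (not_dvd_sz hzc), absurd (e ▸ hpa.trans D.dvd) (not_dvd_sz hzc), e]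
  obtain ⟨p, hp, hpa⟩ := Nat.exists_prime_and_dvd (n := a) (by omega)
  haveI : Fact p.Prime := ⟨hp⟩
  obtain ⟨z, hz, hzsz⟩ := hzc p hp hpa
  have htc : ∀ t : ℕ, t.Prime → Cfsg.pCore t G ≠ ⊥ → t ∣ c := fun t ht htne => by
    obtain ⟨hta, w, -, hwt, hwa⟩ := hA t ht htne
    exact D.dvd_of_sz_c ht hp (fun e => hta (e ▸ hpa)) (isQ_of_orderOf hwt) hwa
      (isQ_of_orderOf hz) hzsz
  have hFnot : ∀ q : ℕ, q.Prime → q ∣ a → ∀ u : G, IsQ q u → u ∈ F → u = 1 := by
    intro q hq hqa u hu huF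
    haveI : Fact q.Prime := ⟨hq⟩
    have := mem_pCore_of_mem_fitting huF hu
    rwa [D.core_eq_bot_of_dvd_a hA hq hqa, mem_bot] at this
  -- `K = C(v)` has order prime to `a`
  set K := cz v with hK
  have hvQ := isQ_of_orderOf hvr
  have hKq : ∀ q : ℕ, q.Prime → q ∣ a → ¬ q ∣ Nat.card ↥K := by
    intro q hq hqa hd
    haveI : Fact q.Prime := ⟨hq⟩
    obtain ⟨u, hu⟩ := exists_prime_orderOf_dvd_card' q hd
    rw [← Subgroup.orderOf_coe] at hu
    have hu1 := ne_one_of_orderOf_prime hq hu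
    have huQ := isQ_of_orderOf hu
    have hqr : q ≠ r := fun e => (hA r hrp hr).1 (e ▸ hqa)
    have hcm : Commute v (u : G) := (mem_cz.1 u.2).symm
    have hco : (orderOf v).Coprime (orderOf (u : G)) := hvQ.coprime hrp hq (Ne.symm hqr) huQ
    rcases D.cases _ hu1 with e | e | e
    · exact D.sz_ne_a hA hr (fun h => hu1 (hFnot q hq hqa _ huQ h)) e
    · have hne1 : v * (u : G) ≠ 1 := fun e' => hu1 (by
        have h := mem_zpowers_mul hcm.symm hco.symm
        rwa [← hcm.eq, e', zpowers_one_eq_bot, mem_bot] at h)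
      have hle : cz (u : G) ≤ cz v :=
        (cz_eq_of_le (cz_mul_le_right hcm hco)
          ((D.eq_b hne1 (e ▸ sz_dvd_of_le (cz_mul_le_right hcm hco))).trans e.symm).dvd) ▸
            cz_mul_le_left hcm hco
      obtain ⟨z', hz', hz'd, hz'c⟩ := exists_central_commute huQ hu1
      have hz'1 := ne_one_of_orderOf_prime hq hz'
      rcases D.cases z' hz'1 with e' | e' | e'
      · exact hz'd (e' ▸ hqa)
      · exact hz'd (e' ▸ hqa.trans D.dvd)
      · exact D.not_commute hva e' (hvQ.coprime hrp hq (Ne.symm hqr) (isQ_of_orderOf hz'))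
          (mem_cz.1 (hle (mem_cz.2 hz'c))).symm
    · exact D.not_commute hva e hco hcm
  have hKa : (Nat.card ↥K).Coprime a := Nat.coprime_of_dvd fun q hq h1 h2 => hKq q hq h2 h1
  have hcardK : Nat.card ↥K * a = Nat.card G := by rw [← hva]; exact K.card_mul_index
  -- centralisers of elements of size `a` or `b` have order prime to `a`
  have hdc : ∀ x : G, sz x = a ∨ sz x = b → ∀ q : ℕ, q.Prime → q ∣ a →
      ¬ q ∣ Nat.card ↥(cz x) := by
    intro x hx q hq hqa hd
    refine hKq q hq hqa (hd.trans ?_)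
    obtain ⟨d, hd'⟩ : a ∣ sz x := by rcases hx with e | e <;> rw [e]; exact D.dvd
    refine ⟨d, Nat.eq_of_mul_eq_mul_right (by omega : 0 < a) ?_⟩
    rw [mul_assoc, mul_comm d a, ← hd']
    exact hcardK.trans (cz x).card_mul_index.symm
  set H := cz z with hH
  have hzQ := isQ_of_orderOf hz
  have hz1 := ne_one_of_orderOf_prime hp hz
  have hzH : z ∈ H := mem_cz.2 (Commute.refl z)
  have hne_p : ∀ q : ℕ, q.Prime → q ≠ p → ∀ w ∈ H, IsQ q w → w ≠ 1 → sz w = c ∧ cz w = H := by
    intro q hq hqp w hw hwQ hw1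
    have hcm : Commute z w := (mem_cz.1 hw).symm
    have hco : (orderOf z).Coprime (orderOf w) := hzQ.coprime hp hq (Ne.symm hqp) hwQ
    have hne1 : z * w ≠ 1 := fun e => hz1 (by
      have h := mem_zpowers_mul hcm hco
      rwa [e, zpowers_one_eq_bot, mem_bot] at h)
    have hzw : sz (z * w) = c := (D.of_c_dvd hne1 (hzsz ▸ sz_dvd_of_le (cz_mul_le_left hcm hco))).resolve_right
      fun e => hdc _ (Or.inr e) p hp hpa (hz ▸ Subgroup.orderOf_dvd_natCard _
        (mem_cz.2 ((Commute.refl z).mul_right hcm)))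
    have heq : cz (z * w) = H := cz_eq_of_le (cz_mul_le_left hcm hco) (hzw.trans hzsz.symm).dvd
    have hle : H ≤ cz w := heq ▸ cz_mul_le_right hcm hco
    have hwc : sz w = c := D.eq_c hw1 (hzsz ▸ sz_dvd_of_le hle)
    exact ⟨hwc, (cz_eq_of_le hle (hzsz.trans hwc.symm).dvd).symm⟩
  have hHa : ∀ q : ℕ, q.Prime → q ∣ Nat.card ↥H → q ∣ a := by
    intro q hq hd
    by_cases hqp : q = p
    · exact hqp ▸ hpa
    haveI : Fact q.Prime := ⟨hq⟩
    obtain ⟨w, hw⟩ := exists_prime_orderOf_dvd_card' q hd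
    rw [← Subgroup.orderOf_coe] at hw
    have hwQ := isQ_of_orderOf hw
    have hw1 := ne_one_of_orderOf_prime hq hw
    obtain ⟨hwc, hwH⟩ := hne_p q hq hqp w w.2 hwQ hw1
    obtain ⟨z', hz', hz'd, hz'c⟩ := exists_central_commute hwQ hw1
    have hz'H : z' ∈ H := hwH ▸ mem_cz.2 hz'c
    have hqc : ¬ q ∣ c :=
      (hne_p q hq hqp z' hz'H (isQ_of_orderOf hz') (ne_one_of_orderOf_prime hq hz')).1 ▸ hz'd
    exact D.dvd_of_sz_a hrp hq (fun e => hqc (e ▸ htc r hrp hr)) hvQ hva hwQ hwc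
  have hcardH : Nat.card ↥H * c = Nat.card G := by rw [← hzsz]; exact H.card_mul_index
  have hHcard : Nat.card ↥H = a := by
    refine Nat.dvd_antisymm ?_ ?_
    · have h1 : Nat.card ↥H ∣ Nat.card ↥K * a := ⟨c, by rw [hcardK, hcardH]⟩
      refine (Nat.Coprime.dvd_mul_left ?_).1 h1
      exact Nat.coprime_of_dvd fun q hq h1 h2 => hKq q hq (hHa q hq h1) h2
    · exact D.cop.dvd_of_dvd_mul_right (hcardH ▸ D.dvd_card_a)
  have hGac : Nat.card G = a * c := by rw [← hcardH, hHcard]
  have hKc : Nat.card ↥K = c := Nat.eq_of_mul_eq_mul_right (by omega : 0 < a)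
    (by rw [hcardK, hGac, mul_comm])
  have hnot_c_dvd_b : ¬ c ∣ b := fun h => by
    have h1 := Nat.le_of_dvd D.b_pos (D.cop.mul_dvd_of_dvd_of_dvd D.dvd h)
    have := D.b_lt_card
    omega
  -- elements with size `c` have centralisers of order `a`
  have hcard_c : ∀ x : G, sz x = c → Nat.card ↥(cz x) = a := fun x hx => by
    have h1 := (cz x).card_mul_index
    rw [show (cz x).index = c from hx, hGac] at h1
    exact Nat.eq_of_mul_eq_mul_right (by have := D.one_lt_c; omega) h1
  -- an abelian subgroup for the fixed-point-free action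
  set X := Cfsg.pCore r G with hX
  set V := (center ↥X).map X.subtype with hV
  haveI : V.Normal := inferInstance
  haveI hVc : IsMulCommutative ↥V := ⟨⟨by
    rintro ⟨_, x, hx, rfl⟩ ⟨_, y, hy, rfl⟩
    exact Subtype.ext (congrArg Subtype.val (mem_center_iff.1 hy x) : (x : G) * y = y * x)⟩⟩
  have hVne : V ≠ ⊥ := by
    haveI : Nontrivial ↥X := (nontrivial_iff_ne_bot X).2 hr
    haveI := (Components.isPGroup_pCore (G := G) r).center_nontrivial
    intro h
    rw [hV, map_eq_bot_iff_of_injective _ X.subtype_injective] at h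
    exact (nontrivial_iff_ne_bot (center ↥X)).1 inferInstance h
  have hVX : V ≤ X := map_subtype_le _
  have hfree : ∀ x : G, sz x = c → ∀ u ∈ X, Commute u x → u = 1 := by
    intro x hx u hu hcm
    by_contra hu1
    obtain ⟨j, hj⟩ := (IsQ.of_mem (Components.isPGroup_pCore r) hu).orderOf_eq hrp
    have hdu : r ∣ orderOf u := hj ▸ dvd_pow_self r fun h0 =>
      hu1 (orderOf_eq_one_iff.1 (by rw [hj, h0, pow_zero]))
    exact (hA r hrp hr).1 (hcard_c x hx ▸
      hdu.trans (Subgroup.orderOf_dvd_natCard _ (mem_cz.2 hcm)))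
  have hnorm : ∀ (N : Subgroup G) [N.Normal] (A : Subgroup G), A ≤ normalizer (N : Set G) :=
    fun N hN A x _ => (normalizer_eq_top_iff.2 hN) ▸ mem_top x
  have hp_elt : ∀ w ∈ H, orderOf w = p → cz w = H := by
    intro u hu hup
    have huz : Commute u z := mem_cz.1 hu
    set A := zpowers u ⊔ zpowers z with hAdef
    have hgen : A ≤ cz u ⊓ cz z := sup_le
      (zpowers_le.2 ⟨mem_cz.2 (Commute.refl u), mem_cz.2 huz⟩)
      (zpowers_le.2 ⟨mem_cz.2 huz.symm, mem_cz.2 (Commute.refl z)⟩)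
    have hAc : ∀ x ∈ A, ∀ y ∈ A, Commute x y := by
      intro x hx
      have hle : A ≤ cz x := sup_le
        (zpowers_le.2 (mem_cz.2 (mem_cz.1 (hgen hx).1).symm))
        (zpowers_le.2 (mem_cz.2 (mem_cz.1 (hgen hx).2).symm))
      exact fun y hy => (mem_cz.1 (hle hy)).symm
    haveI : IsMulCommutative ↥A := ⟨⟨fun x y => Subtype.ext (hAc x x.2 y y.2)⟩⟩
    have hpow : ∀ x ∈ A, x ^ p = 1 := by
      intro x hx
      rw [hAdef, sup_eq_closure_mul] at hx
      induction hx using Subgroup.closure_induction with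
      | mem y hy =>
        obtain ⟨y₁, hy₁, y₂, hy₂, rfl⟩ := hy
        have hc12 : Commute y₁ y₂ := hAc _ (mem_sup_left hy₁) _ (mem_sup_right hy₂)
        show (y₁ * y₂) ^ p = 1
        rw [hc12.mul_pow,
          orderOf_dvd_iff_pow_eq_one.1 (hup ▸ orderOf_dvd_of_mem_zpowers hy₁),
          orderOf_dvd_iff_pow_eq_one.1 (hz ▸ orderOf_dvd_of_mem_zpowers hy₂), one_mul]
      | one => exact one_pow p
      | mul y w hy hw ihy ihw =>
        rw [(hAc y (by rw [hAdef, sup_eq_closure_mul]; exact hy) w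
          (by rw [hAdef, sup_eq_closure_mul]; exact hw)).mul_pow, ihy, ihw, one_mul]
      | inv y _ ih => rw [inv_pow, ih, inv_one]
    have hszc : ∀ x ∈ A, x ≠ 1 → sz x = c := by
      intro x hx hx1
      have hox : orderOf x = p := orderOf_eq_prime (hpow x hx) hx1
      rcases D.cases x hx1 with e | e | e
      · exact absurd (hox ▸ Subgroup.orderOf_dvd_natCard _ (mem_cz.2 (Commute.refl x)))
          (hdc x (Or.inl e) p hp hpa)
      · exact absurd (hox ▸ Subgroup.orderOf_dvd_natCard _ (mem_cz.2 (Commute.refl x)))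
          (hdc x (Or.inr e) p hp hpa)
      · exact e
    haveI : IsCyclic ↥A := S0041.result A V hVne (hnorm V A) (fun x hx hx1 => eq_bot_iff.2
      fun w hw => mem_bot.2 (hfree x (hszc x hx hx1) w (hVX hw.1)
        (mem_cz.1 hw.2))) (Or.inl inferInstance)
    have hu1 := ne_one_of_orderOf_prime hp hup
    have hz_u : z ∈ zpowers u := by
      obtain ⟨g, hg⟩ := IsCyclic.exists_generator (α := ↥A)
      have hcard : Nat.card ↥A ≤ p := by
        rw [← orderOf_eq_card_of_forall_mem_zpowers hg]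
        exact Nat.le_of_dvd hp.pos (orderOf_dvd_of_pow_eq_one (Subtype.ext (by simpa using hpow g g.2)))
      have heq : zpowers u = A := eq_of_le_of_card_ge le_sup_left (by rw [Nat.card_zpowers, hup]; exact hcard)
      exact heq.symm ▸ mem_sup_right (mem_zpowers z)
    exact cz_eq_of_le (le_cz_of_mem_zpowers hz_u)
      ((hszc u (mem_sup_left (mem_zpowers u)) hu1).trans hzsz.symm).dvd
  have hle_H : ∀ h ∈ H, h ≠ 1 → cz h ≤ H := by
    intro h hh h1
    obtain ⟨q, hq, w, hw, hwq⟩ := exists_prime_pow_power h1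
    have hwH : w ∈ H := zpowers_le.2 hh hw
    refine (le_cz_of_mem_zpowers hw).trans (le_of_eq ?_)
    by_cases hqp : q = p
    · exact hp_elt w hwH (hwq.trans hqp)
    · exact (hne_p q hq hqp w hwH (isQ_of_orderOf hwq) (ne_one_of_orderOf_prime hq hwq)).2
  have hHeq : ∀ h ∈ H, h ≠ 1 → cz h = H := by
    intro h hh h1
    refine eq_of_le_of_card_ge (hle_H h hh h1) ?_
    rcases D.cases h h1 with e | e | e
    · exfalso
      obtain ⟨q, hq, w, hw, hwq⟩ := exists_prime_pow_power h1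
      exact hdc h (Or.inl e) q hq
        (hHa q hq (hwq ▸ Subgroup.orderOf_dvd_natCard _ (zpowers_le.2 hh hw)))
        (hwq ▸ Subgroup.orderOf_dvd_natCard _ (zpowers_le.2 (mem_cz.2 (Commute.refl h)) hw))
    · exfalso
      obtain ⟨q, hq, w, hw, hwq⟩ := exists_prime_pow_power h1
      exact hdc h (Or.inr e) q hq
        (hHa q hq (hwq ▸ Subgroup.orderOf_dvd_natCard _ (zpowers_le.2 hh hw)))
        (hwq ▸ Subgroup.orderOf_dvd_natCard _ (zpowers_le.2 (mem_cz.2 (Commute.refl h)) hw))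
    · rw [hcard_c h e, hHcard]
  have hcomm : ∀ x ∈ H, ∀ y ∈ H, Commute x y := fun x hx y hy => by
    by_cases hy1 : y = 1
    · exact hy1 ▸ Commute.one_right x
    · exact mem_cz.1 ((hHeq y hy hy1).symm ▸ hx : x ∈ cz y)
  have hCC : CC H := ⟨hcomm, hHeq, by rw [hHcard, show H.index = c from hzsz]; exact D.cop⟩
  have hHne : H ≠ ⊥ := fun e => hz1 (mem_bot.1 (e ▸ hzH))
  haveI := hCC.isMulCommutative
  haveI hHcyc : IsCyclic ↥H := S0041.result H V hVne (hnorm V H) (fun x hx hx1 => eq_bot_iff.2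
    fun w hw => mem_bot.2 (hfree x (by
      rw [show sz x = (cz x).index from rfl, hHeq x hx hx1]; exact hzsz) w (hVX hw.1)
      (mem_cz.1 hw.2))) (Or.inl inferInstance)
  -- normal subgroups and `H`
  have hFH : ∀ u ∈ F, u ∈ H → u = 1 := by
    intro u huF huH
    by_contra hu1
    obtain ⟨q, hq, w, hw, hwq⟩ := exists_prime_pow_power hu1
    exact ne_one_of_orderOf_prime hq hwq (hFnot q hq
      (hHa q hq (hwq ▸ Subgroup.orderOf_dvd_natCard _ (zpowers_le.2 huH hw))) w
      (isQ_of_orderOf hwq) (zpowers_le.2 huF hw))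
  have hcenF : ∀ t : ℕ, t.Prime → Cfsg.pCore t G ≠ ⊥ →
      centralizer (Cfsg.pCore t G : Set G) ≤ F := by
    intro t ht htne
    refine D.le_fitting_of_inf_eq_bot hCC hHne (eq_bot_iff.2 fun x hx => mem_bot.2 ?_)
    by_contra hx1
    obtain ⟨hta, w, hw, hwt, -⟩ := hA t ht htne
    have hwH : w ∈ H := hCC.mem_of_commute hx.2 hx1 (mem_centralizer_iff.1 hx.1 w hw)
    exact hta (hHcard ▸ hwt ▸ Subgroup.orderOf_dvd_natCard _ hwH)
  -- elements of prime power order prime to `a` outside `F` have size `b`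
  have hb : ∀ q : ℕ, q.Prime → ¬ q ∣ a → ∀ x : G, IsQ q x → x ∉ F → sz x = b := by
    intro q hq hqa x hx hxF
    have hx1 : x ≠ 1 := fun e => hxF (e ▸ one_mem _)
    rcases D.cases x hx1 with e | e | e
    · exact absurd e (D.sz_ne_a hA hr hxF)
    · exact e
    · exfalso
      obtain ⟨j, hj⟩ := hx.orderOf_eq hq
      have hqo : q ∣ orderOf x := hj ▸ dvd_pow_self q fun h0 =>
        hx1 (orderOf_eq_one_iff.1 (by rw [hj, h0, pow_zero]))
      exact hqa (hcard_c x e ▸ hqo.trans (Subgroup.orderOf_dvd_natCard _ (mem_cz.2 (Commute.refl x))))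
  have hprime_c : ∀ q : ℕ, q.Prime → ¬ q ∣ a → q ∣ Nat.card G → q ∣ c := fun q hq hqa h =>
    (hq.dvd_mul.1 (hGac ▸ h)).resolve_left hqa
  have hnc : ∀ q : ℕ, q.Prime → q ∣ c → ¬ q ∣ a := fun q hq h1 h2 =>
    hq.not_dvd_one (D.cop.gcd_eq_one ▸ Nat.dvd_gcd h2 h1)
  have hstep : ∀ t q : ℕ, t.Prime → q.Prime → q ≠ t → ¬ t ∣ a → ¬ q ∣ a →
      Cfsg.pCore t G ≠ ⊥ → ∀ g k : G, IsQ t g → g ∉ F → IsQ q k → k ∉ F → ¬ Commute g k := by
    intro t q ht hq hqt hta hqa htne g k hg hgF hk hkF hcm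
    haveI : Fact t.Prime := ⟨ht⟩
    have hco : (orderOf g).Coprime (orderOf k) := hg.coprime ht hq (Ne.symm hqt) hk
    have hne1 : g * k ≠ 1 := fun e => hgF (by
      have h := mem_zpowers_mul hcm hco
      rw [e, zpowers_one_eq_bot, mem_bot] at h
      exact h ▸ one_mem _)
    have hgb := hb t ht hta g hg hgF
    have hle : cz g ≤ cz k :=
      (cz_eq_of_le (cz_mul_le_left hcm hco)
        ((D.eq_b hne1 (hgb ▸ sz_dvd_of_le (cz_mul_le_left hcm hco))).trans hgb.symm).dvd) ▸
          cz_mul_le_right hcm hco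
    exact hkF (hcenF t ht htne (mem_centralizer_of_cz_le (Components.isPGroup_pCore t) hg
      (hk.coprime_prime hq ht hqt) hle))
  haveI : Group.IsNilpotent ↥F := Components.fitting_isNilpotent
  -- every prime divisor of `c` has a nontrivial core
  have hcores : ∀ q : ℕ, q.Prime → q ∣ c → Cfsg.pCore q G ≠ ⊥ := by
    intro q hq hqc hbot
    haveI : Fact q.Prime := ⟨hq⟩
    have hqa := hnc q hq hqc
    have hqF : ∀ x : G, IsQ q x → x ≠ 1 → x ∉ F := fun x hx hx1 hxF => hx1 (by
      have := mem_pCore_of_mem_fitting hxF hx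
      rwa [hbot, mem_bot] at this)
    obtain ⟨Q⟩ : Nonempty (Sylow q G) := inferInstance
    obtain ⟨z', -, hz', hz'c⟩ := exists_central Q (hqc.trans D.dvd_card_c)
    have hz'b : sz z' = b := hb q hq hqa z' (isQ_of_orderOf hz')
      (hqF z' (isQ_of_orderOf hz') (ne_one_of_orderOf_prime hq hz'))
    have hqb : ¬ q ∣ b := hz'b ▸ not_dvd_sz hz'c
    -- no element of a prime with nontrivial core outside `F`
    have hin : ∀ t : ℕ, t.Prime → Cfsg.pCore t G ≠ ⊥ → ∀ g : G, IsQ t g → g ∈ F := by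
      intro t ht htne g hg
      by_contra hgF
      have hta := (hA t ht htne).1
      have hqt : q ≠ t := fun e => htne (e ▸ hbot)
      have hgb := hb t ht hta g hg hgF
      obtain ⟨P, hP⟩ := exists_sylow_le_cz (hgb.symm ▸ hqb : ¬ q ∣ sz g)
      obtain ⟨w, hw, hwq, -⟩ := exists_central P (hqc.trans D.dvd_card_c)
      exact hstep t q ht hq hqt hta hqa htne g w hg hgF (isQ_of_orderOf hwq)
        (hqF w (isQ_of_orderOf hwq) (ne_one_of_orderOf_prime hq hwq)) (mem_cz.1 (hP hw)).symm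
    haveI : Fact (Nat.Prime 2) := ⟨Nat.prime_two⟩
    obtain ⟨S⟩ : Nonempty (Sylow 2 G) := inferInstance
    by_cases h2a : 2 ∣ a
    · obtain ⟨P, hP⟩ := CC.exists_sylow_le hCC.cop (hHcard.symm ▸ h2a : 2 ∣ Nat.card ↥H)
      refine D.hns (isSolvable_of_cyclic_two P ?_)
      exact isCyclic_of_injective (inclusion hP) (inclusion_injective hP)
    by_cases h2core : Cfsg.pCore 2 G = ⊥
    swap
    · -- then `G/F` has odd order
      have hle : (S : Subgroup G) ≤ F := fun g hg => hin 2 Nat.prime_two h2core g (IsQ.of_mem S.2 hg)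
      have hodd : Odd (Nat.card (G ⧸ F)) := by
        rw [← index_eq_card, ← Nat.not_even_iff_odd, even_iff_two_dvd]
        exact fun hd => S.not_dvd_index (hd.trans (index_dvd_of_le hle))
      exact D.hns ((Group.isSolvable_iff_subgroup_quotient F).2 ⟨inferInstance, S0205.result hodd⟩)
    have h2F : ∀ x : G, IsQ 2 x → x ≠ 1 → x ∉ F := fun x hx hx1 hxF => hx1 (by
      have := mem_pCore_of_mem_fitting hxF hx
      rwa [h2core, mem_bot] at this)
    have h2b : ∀ x : G, IsQ 2 x → x ≠ 1 → sz x = b := fun x hx hx1 =>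
      hb 2 Nat.prime_two h2a x hx (h2F x hx hx1)
    have h2r : (2 : ℕ) ≠ r := fun e => hr (by show Cfsg.pCore r G = ⊥; rw [← e]; exact h2core)
    -- no four-group
    have hfour : ∀ x y : G, orderOf x = 2 → orderOf y = 2 → Commute x y → x = y := by
      intro x y hx hy hxy
      by_contra hne
      have hfix : ∀ g h : G, orderOf g = 2 → Commute g h → ∀ w ∈ X, Commute w g → Commute w h := by
        intro g h hg hgh w hw hwg
        have hg1 := ne_one_of_orderOf_prime Nat.prime_two hg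
        have hco : (orderOf g).Coprime (orderOf w) := (isQ_of_orderOf hg).coprime Nat.prime_two hrp h2r
          (IsQ.of_mem (Components.isPGroup_pCore r) hw)
        have hne1 : g * w ≠ 1 := fun e => hg1 (by
          have h' := mem_zpowers_mul hwg.symm hco
          rwa [e, zpowers_one_eq_bot, mem_bot] at h')
        have hgb := h2b g (isQ_of_orderOf hg) hg1
        have hle : cz g ≤ cz w :=
          (cz_eq_of_le (cz_mul_le_left hwg.symm hco)
            ((D.eq_b hne1 (hgb ▸ sz_dvd_of_le (cz_mul_le_left hwg.symm hco))).trans hgb.symm).dvd) ▸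
              cz_mul_le_right hwg.symm hco
        exact (mem_cz.1 (hle (mem_cz.2 hgh.symm))).symm
      have hx1 := ne_one_of_orderOf_prime Nat.prime_two hx
      have hy1 := ne_one_of_orderOf_prime Nat.prime_two hy
      have hxx : x * x = 1 := by rw [← pow_two, ← hx, pow_orderOf_eq_one]
      have hyy : y * y = 1 := by rw [← pow_two, ← hy, pow_orderOf_eq_one]
      have hxy1 : x * y ≠ 1 := fun e => hne (by
        calc x = x * (y * y) := by rw [hyy, mul_one]
          _ = (x * y) * y := (mul_assoc _ _ _).symm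
          _ = y := by rw [e, one_mul])
      have hxy2 : orderOf (x * y) = 2 := orderOf_eq_prime
        (by rw [hxy.mul_pow, pow_two, pow_two, hxx, hyy, one_mul]) hxy1
      set A := zpowers x ⊔ zpowers y with hAdef
      have hgen : A ≤ cz x ⊓ cz y := sup_le
        (zpowers_le.2 ⟨mem_cz.2 (Commute.refl x), mem_cz.2 hxy⟩)
        (zpowers_le.2 ⟨mem_cz.2 hxy.symm, mem_cz.2 (Commute.refl y)⟩)
      have hAc : ∀ g ∈ A, ∀ h ∈ A, Commute g h := by
        intro g hg
        have hle : A ≤ cz g := sup_le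
          (zpowers_le.2 (mem_cz.2 (mem_cz.1 (hgen hg).1).symm))
          (zpowers_le.2 (mem_cz.2 (mem_cz.1 (hgen hg).2).symm))
        exact fun h hh => (mem_cz.1 (hle hh)).symm
      haveI : IsMulCommutative ↥A := ⟨⟨fun g h => Subtype.ext (hAc g g.2 h h.2)⟩⟩
      have hmem : ∀ g ∈ A, g = 1 ∨ g = x ∨ g = y ∨ g = x * y := by
        intro g hg
        have hyn : zpowers y ≤ normalizer (zpowers x : Set G) := by
          rw [zpowers_le, mem_normalizer_iff]
          intro h
          have hcx : ∀ n ∈ zpowers x, Commute y n := fun n hn => by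
            obtain ⟨i, rfl⟩ := mem_zpowers_iff.1 hn
            exact hxy.symm.zpow_right i
          constructor
          · intro hh
            rwa [(hcx h hh).eq, mul_inv_cancel_right]
          · intro hh
            have h' := hcx _ hh
            have e : h = y * h * y⁻¹ := by
              calc h = y⁻¹ * (y * h * y⁻¹) * y := by group
                _ = y⁻¹ * (y * (y * h * y⁻¹)) := by rw [mul_assoc, h'.eq]
                _ = y * h * y⁻¹ := by group
            exact e ▸ hh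
        obtain ⟨g₁, hg₁, g₂, hg₂, rfl⟩ := (Coprime.mem_sup_iff hyn).1 hg
        have h2 : ∀ s : G, s * s = 1 → ∀ k ∈ zpowers s, k = 1 ∨ k = s := by
          intro s hs k hk
          obtain ⟨i, rfl⟩ := mem_zpowers_iff.1 hk
          rcases Int.even_or_odd' i with ⟨j, rfl | rfl⟩
          · exact Or.inl (by rw [zpow_mul, zpow_two, hs, one_zpow])
          · exact Or.inr (by rw [zpow_add, zpow_mul, zpow_two, hs, one_zpow, one_mul, zpow_one])
        rcases h2 x hxx g₁ hg₁ with rfl | rfl <;> rcases h2 y hyy g₂ hg₂ with rfl | rfl <;> simp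
      have hord : ∀ g ∈ A, g ≠ 1 → orderOf g = 2 := by
        intro g hg hg1
        rcases hmem g hg with rfl | rfl | rfl | rfl
        exacts [absurd rfl hg1, hx, hy, hxy2]
      have hA2 : IsPGroup 2 ↥A := fun g => ⟨1, by
        by_cases h : (g : G) = 1
        · exact Subtype.ext (by simp [h])
        · exact Subtype.ext (by
            show (g : G) ^ 2 ^ 1 = 1
            rw [pow_one, ← hord g g.2 h, pow_orderOf_eq_one])⟩
      have hAcyc : ¬ IsCyclic ↥A := by
        intro hc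
        obtain ⟨⟨g, hgA⟩, hg⟩ := IsCyclic.exists_generator (α := ↥A)
        have hle : A ≤ zpowers g := fun s hs => by
          obtain ⟨i, hi⟩ := mem_zpowers_iff.1 (hg ⟨s, hs⟩)
          exact mem_zpowers_iff.2 ⟨i, congrArg Subtype.val hi⟩
        have hg1 : g ≠ 1 := fun e => hx1 (by
          have h := hle (mem_sup_left (mem_zpowers x))
          rwa [e, zpowers_one_eq_bot, mem_bot] at h)
        have hgg : g * g = 1 := by rw [← pow_two, ← hord g hgA hg1, pow_orderOf_eq_one]
        have hk : ∀ k ∈ A, k ≠ 1 → k = g := fun k hk hk1 => by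
          obtain ⟨i, rfl⟩ := mem_zpowers_iff.1 (hle hk)
          rcases Int.even_or_odd' i with ⟨j, rfl | rfl⟩
          · exact absurd (by rw [zpow_mul, zpow_two, hgg, one_zpow]) hk1
          · rw [zpow_add, zpow_mul, zpow_two, hgg, one_zpow, one_mul, zpow_one]
        exact hne ((hk x (mem_sup_left (mem_zpowers x)) hx1).trans
          (hk y (mem_sup_right (mem_zpowers y)) hy1).symm)
      have hcop : (Nat.card ↥A).Coprime (Nat.card ↥X) := by
        obtain ⟨i, hi⟩ := IsPGroup.iff_card.1 hA2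
        obtain ⟨j, hj⟩ := IsPGroup.iff_card.1 (Components.isPGroup_pCore (G := G) r)
        rw [hi, hj]
        exact ((Nat.coprime_primes Nat.prime_two hrp).2 h2r).pow i j
      have hgenX := S0058.result A X hAcyc (hnorm X A) hcop
      have hle : X ≤ cz x := by
        rw [← hgenX]
        refine iSup₂_le fun g hg w hw => ?_
        exact mem_cz.2 (hfix g x (hord g hg.1 hg.2) (hAc g hg.1 x (mem_sup_left (mem_zpowers x)))
          w hw.1 (mem_cz.1 hw.2))
      exact h2F x (isQ_of_orderOf hx) hx1 (hcenF r hrp hr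
        (mem_centralizer_iff.2 fun w hw => mem_cz.1 (hle hw)))
    have hdG : 2 ∣ Nat.card G := even_iff_two_dvd.1 (Nat.not_odd_iff_even.1 fun h =>
      D.hns (S0205.result h))
    obtain ⟨s, hsS, hs, hsc⟩ := exists_central S hdG
    refine D.hns (isSolvable_of_cyclic_two S (isCyclic_of_unique_involution S.2 ?_ ?_))
    · intro g hg h hh
      by_cases hg1 : g = 1
      · exact hg1 ▸ Commute.one_left h
      obtain ⟨l, hl, w, hw, hwl⟩ := exists_prime_pow_power hg1
      have hw1 := ne_one_of_orderOf_prime hl hwl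
      have hwQ : IsQ 2 w := IsQ.of_mem S.2 (zpowers_le.2 hg hw)
      have hl2 : l = 2 := by
        by_contra h
        exact hw1 ((isQ_of_orderOf hwl).eq_one hl Nat.prime_two h hwQ.choose_spec)
      have hws : w = s := hfour w s (hwl.trans hl2) hs
        (mem_cz.1 (hsc (zpowers_le.2 hg hw)))
      have heq : cz g = cz s := hws ▸ cz_eq_of_le (le_cz_of_mem_zpowers hw)
        ((h2b g (IsQ.of_mem S.2 hg) hg1).trans (h2b w hwQ hw1).symm).dvd
      exact (mem_cz.1 (heq.symm ▸ hsc hh : h ∈ cz g)).symm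
    · intro x hx y hy hx2 hy2
      exact (hfour x s hx2 hs (mem_cz.1 (hsc hx))).trans
        (hfour y s hy2 hs (mem_cz.1 (hsc hy))).symm
  -- an element normalising `H`
  obtain ⟨ℓ, hℓ, e, heN, heQ, heH⟩ : ∃ q : ℕ, q.Prime ∧ ∃ w ∈ normalizer (H : Set G),
      IsQ q w ∧ w ∉ H := by
    refine exists_isQ_not_mem fun hle => ?_
    obtain ⟨N, hN, hcompl⟩ := S0087.result H hCC.cop (hle.trans fun x hx =>
      mem_centralizer_iff.2 fun y hy => hcomm y hy x hx)
    haveI := hN
    have hNF : N ≤ F := D.le_fitting_of_inf_eq_bot hCC hHne (disjoint_iff.1 hcompl.disjoint)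
    haveI hHs : Group.IsSolvable ↥H := Group.isSolvable_of_comm fun x y =>
      Subtype.ext (hcomm x x.2 y y.2)
    exact D.hns ((Group.isSolvable_iff_subgroup_quotient N).2
      ⟨isSolvable_of_le hNF inferInstance, Group.isSolvable_of_surjective
        (f := (hcompl.symm.QuotientMulEquiv).symm.toMonoidHom) (MulEquiv.surjective _)⟩)
  have hℓa : ¬ ℓ ∣ a := fun h => heH (hCC.mem_of_normalizer hℓ (hHcard.symm ▸ h) heQ heN)
  have he1 : e ≠ 1 := fun h => heH (h ▸ one_mem _)
  have heF : e ∉ F := by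
    intro he
    have h1 : z * e * z⁻¹ * e⁻¹ ∈ H := by
      rw [show z * e * z⁻¹ * e⁻¹ = z * (e * z⁻¹ * e⁻¹) by group]
      exact H.mul_mem hzH ((mem_normalizer_iff.1 heN _).1 (H.inv_mem hzH))
    have h2 : z * e * z⁻¹ * e⁻¹ ∈ F :=
      F.mul_mem ((inferInstance : F.Normal).conj_mem e he z) (F.inv_mem he)
    exact heH (mem_cz.2 (mul_inv_eq_iff_eq_mul.1 (mul_inv_eq_one.1 (hFH _ h2 h1))).symm)
  haveI : Fact ℓ.Prime := ⟨hℓ⟩
  have hℓc : ℓ ∣ c := by
    obtain ⟨j, hj⟩ := heQ.orderOf_eq hℓ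
    refine hprime_c ℓ hℓ hℓa ((dvd_pow_self ℓ fun h0 =>
      he1 (orderOf_eq_one_iff.1 (by rw [hj, h0, pow_zero]))).trans (hj ▸ orderOf_dvd_natCard e))
  have hℓcore := hcores ℓ hℓ hℓc
  -- a second prime outside `F`
  obtain ⟨s, hs, hsℓ, hsa, k, hkQ, hkF⟩ : ∃ s : ℕ, s.Prime ∧ s ≠ ℓ ∧ ¬ s ∣ a ∧ ∃ k : G, IsQ s k ∧ k ∉ F := by
    by_contra hcon
    push Not at hcon
    have hFR : F ≤ Rad G := le_rad inferInstance inferInstance
    have hHR : H ≤ Rad G := fun h hh => by
      by_cases h1 : h = 1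
      · exact h1 ▸ one_mem _
      refine mem_rad_of_sup_index hℓ (k := (cz h ⊔ Rad G).index.primeFactorsList.length) (dvd_of_eq ?_)
      refine Nat.eq_prime_pow_of_unique_prime_dvd index_ne_zero_of_finite fun {q} hq hd => ?_
      by_contra hqℓ
      haveI : Fact q.Prime := ⟨hq⟩
      by_cases hqa : q ∣ a
      · obtain ⟨P, hP⟩ := CC.exists_sylow_le hCC.cop (hHcard.symm ▸ hqa : q ∣ Nat.card ↥H)
        exact P.not_dvd_index (hd.trans (index_dvd_of_le
          (hP.trans ((hHeq h hh h1).symm.le.trans le_sup_left))))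
      · obtain ⟨Q⟩ : Nonempty (Sylow q G) := inferInstance
        exact Q.not_dvd_index (hd.trans (index_dvd_of_le fun x hx =>
          mem_sup_right (hFR (hcon q hq hqℓ hqa x (IsQ.of_mem Q.2 hx)))))
    obtain ⟨q, hq, hqℓ, x, hx, hxR⟩ := exists_isQ_not_mem_rad D.hns ℓ
    haveI : Fact q.Prime := ⟨hq⟩
    by_cases hqa : q ∣ a
    · obtain ⟨g, hg⟩ := hCC.exists_conj_mem (hHcard.symm ▸ hqa : q ∣ Nat.card ↥H) hx
      have h1 := (rad_normal (G := G)).conj_mem _ (hHR hg) g⁻¹
      exact hxR (by rwa [show g⁻¹ * (g * x * g⁻¹) * g⁻¹⁻¹ = x by group] at h1)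
    · exact hxR (hFR (hcon q hq hqℓ hqa x hx))
  haveI : Fact s.Prime := ⟨hs⟩
  have hk1 : k ≠ 1 := fun h => hkF (h ▸ one_mem _)
  have hsc : s ∣ c := by
    obtain ⟨j, hj⟩ := hkQ.orderOf_eq hs
    refine hprime_c s hs hsa ((dvd_pow_self s fun h0 =>
      hk1 (orderOf_eq_one_iff.1 (by rw [hj, h0, pow_zero]))).trans (hj ▸ orderOf_dvd_natCard k))
  have hscore := hcores s hs hsc
  have hkb := hb s hs hsa k hkQ hkF
  have heb := hb ℓ hℓ hℓa e heQ heF
  have hcardeq : ∀ x y : G, sz x = b → sz y = b → Nat.card ↥(cz x) = Nat.card ↥(cz y) := fun x y hx hy => by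
    have h1 := (cz x).card_mul_index
    have h2 := (cz y).card_mul_index
    rw [show (cz x).index = b from hx] at h1
    rw [show (cz y).index = b from hy, ← h1] at h2
    exact (Nat.eq_of_mul_eq_mul_right D.b_pos h2).symm
  -- a `t`-subgroup of the centraliser lies in the core
  have hpart : ∀ t q : ℕ, t.Prime → q.Prime → q ≠ t → ¬ q ∣ a → Cfsg.pCore t G ≠ ⊥ →
      ∀ x : G, IsQ q x → x ∉ F → ∀ T : Subgroup G, IsPGroup t ↥T →
      Nat.card ↥T ∣ Nat.card ↥(cz x) → Nat.card ↥T ≤ Nat.card ↥(cz x ⊓ Cfsg.pCore t G : Subgroup G) := by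
    intro t q ht hq hqt hqa htne x hx hxF T hT hTd
    haveI : Fact t.Prime := ⟨ht⟩
    have hta := (hA t ht htne).1
    obtain ⟨U⟩ : Nonempty (Sylow t ↥(cz x)) := inferInstance
    have hle : (U : Subgroup ↥(cz x)).map (cz x).subtype ≤ cz x ⊓ Cfsg.pCore t G := by
      rintro _ ⟨w, hw, rfl⟩
      refine ⟨w.2, ?_⟩
      by_contra hwc
      have hwQ : IsQ t (w : G) := by
        obtain ⟨i, hi⟩ := IsQ.of_mem U.2 hw
        exact ⟨i, by simpa using congrArg Subtype.val hi⟩
      exact hstep t q ht hq hqt hta hqa htne w x hwQ (fun h => hwc (mem_pCore_of_mem_fitting h hwQ))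
        hx hxF (mem_cz.1 w.2)
    obtain ⟨i, hi⟩ := IsPGroup.iff_card.1 hT
    have h1 : Nat.card ↥T ∣ Nat.card ↥((U : Subgroup ↥(cz x)).map (cz x).subtype) := by
      rw [card_map_of_injective (subtype_injective _), Sylow.card_eq_multiplicity, hi]
      refine pow_dvd_pow t ?_
      exact (ht.pow_dvd_iff_le_factorization Nat.card_pos.ne').1 (hi ▸ hTd)
    exact (Nat.le_of_dvd Nat.card_pos h1).trans (card_le_of_le hle)
  -- elements of the `s`-core have size `a`
  set Y := Cfsg.pCore s G with hY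
  have hYa : ∀ w ∈ Y, w ≠ 1 → sz w = a := by
    intro w hw hw1
    rcases D.cases w hw1 with h | h | h
    · exact h
    · exfalso
      set L := Cfsg.pCore ℓ G
      have hle : L ≤ cz w := fun x hx => mem_cz.2 (Subgroup.commute_of_normal_of_disjoint _ _
        inferInstance inferInstance (IsPGroup.disjoint_of_ne ℓ s (Ne.symm hsℓ) _ _
          (Components.isPGroup_pCore ℓ) (Components.isPGroup_pCore s)) x w hx hw)
      have h2 := hpart ℓ s hℓ hs hsℓ hsa hℓcore k hkQ hkF L (Components.isPGroup_pCore ℓ)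
        (hcardeq w k h hkb ▸ card_dvd_of_le hle)
      have h3 : cz k ⊓ L = L := eq_of_le_of_card_ge inf_le_right h2
      exact hkF (hcenF ℓ hℓ hℓcore (mem_centralizer_iff.2 fun x hx =>
        mem_cz.1 ((h3.symm ▸ hx : x ∈ cz k ⊓ L)).1))
    · exfalso
      obtain ⟨j, hj⟩ := (IsQ.of_mem (Components.isPGroup_pCore s) hw).orderOf_eq hs
      refine hsa ((dvd_pow_self s fun h0 => hw1 (orderOf_eq_one_iff.1 (by rw [hj, h0, pow_zero]))).trans
        (hj ▸ hcard_c w h ▸ Subgroup.orderOf_dvd_natCard _ (mem_cz.2 (Commute.refl w))))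
  -- `k` fixes fewer points of the `s`-core than `e`
  have hlt : Nat.card ↥(cz k ⊓ Y : Subgroup G) < Nat.card ↥(cz e ⊓ Y : Subgroup G) := by
    set T := zpowers k ⊔ (cz k ⊓ Y) with hT
    have hn : zpowers k ≤ normalizer ((cz k ⊓ Y : Subgroup G) : Set G) := by
      rw [zpowers_le, mem_normalizer_iff]
      have hkk : ∀ w : G, Commute w k → k * w * k⁻¹ = w := fun w hw => by
        rw [← hw.eq, mul_inv_cancel_right]
      intro w
      constructor
      · intro hw
        rwa [hkk w (mem_cz.1 hw.1)]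
      · intro hw
        have h' : k * w * k⁻¹ * k = k * (k * w * k⁻¹) := (mem_cz.1 hw.1).eq
        have e' : w = k * w * k⁻¹ := by
          calc w = k⁻¹ * (k * w * k⁻¹ * k) := by group
            _ = k⁻¹ * (k * (k * w * k⁻¹)) := by rw [h']
            _ = k * w * k⁻¹ := by group
        exact e' ▸ hw
    have hTp : IsPGroup s ↥T := (isPGroup_zpowers_of_isQ hkQ).to_sup_of_normal_right'
      ((Components.isPGroup_pCore s).to_le inf_le_right) hn
    have hTle : T ≤ cz k := sup_le (zpowers_le.2 (mem_cz.2 (Commute.refl k))) inf_le_left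
    refine lt_of_lt_of_le ?_ (hpart s ℓ hs hℓ (Ne.symm hsℓ) hℓa hscore e heQ heF T hTp
      (hcardeq k e hkb heb ▸ card_dvd_of_le hTle))
    by_contra hle
    have heq := eq_of_le_of_card_ge (le_sup_right : cz k ⊓ Y ≤ T) (not_lt.1 hle)
    have hkY : k ∈ cz k ⊓ Y := heq.symm ▸ mem_sup_left (mem_zpowers k)
    exact hkF (Components.pCore_le_fitting s hkY.2)
  -- but it fixes at least as many
  have hex : ∀ w : ↥(cz e ⊓ Y : Subgroup G), ∃ g : G, g * (w : G) * g⁻¹ ∈ cz k ⊓ Y := by
    rintro ⟨w, hwe, hwY⟩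
    by_cases hw1 : w = 1
    · exact ⟨1, by simp [hw1]⟩
    obtain ⟨g, hg⟩ := exists_commute_conj ((hYa w hwY hw1).symm ▸ hsa : ¬ s ∣ sz w) hkQ
    refine ⟨g⁻¹, mem_cz.2 ?_, (inferInstance : Y.Normal).conj_mem w hwY g⁻¹⟩
    have h' := commute_conj g⁻¹ hg
    rw [show g⁻¹ * (g * k * g⁻¹) * g⁻¹⁻¹ = k by group] at h'
    exact h'.symm
  choose gw hgw using hex
  let f : ↥(cz e ⊓ Y : Subgroup G) → ↥(cz k ⊓ Y : Subgroup G) := fun w => ⟨_, hgw w⟩
  have hinj : Function.Injective f := by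
    intro w w' hww
    have h0 : gw w * (w : G) * (gw w)⁻¹ = gw w' * (w' : G) * (gw w')⁻¹ := congrArg Subtype.val hww
    refine Subtype.ext ?_
    by_cases hw1 : (w : G) = 1
    · rw [hw1, mul_one, mul_inv_cancel] at h0
      rw [hw1]
      exact (conj_eq_one_iff.1 h0.symm).symm
    set g := (gw w')⁻¹ * gw w with hg
    have hgg : g * (w : G) * g⁻¹ = w' := by
      rw [hg]
      calc (gw w')⁻¹ * gw w * (w : G) * ((gw w')⁻¹ * gw w)⁻¹
          = (gw w')⁻¹ * (gw w * (w : G) * (gw w)⁻¹) * gw w' := by group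
        _ = _ := by rw [h0]; group
    have hwa := hYa w w.2.2 hw1
    obtain ⟨h, hh, m, hm, hgm⟩ := exists_mul_of_coprime_index (A := H) (B := cz (w : G)) (by
      rw [show H.index = c from hzsz, show (cz (w : G)).index = a from hwa]
      exact D.cop.symm) g
    have hhw : h * (w : G) * h⁻¹ = w' := by
      rw [← hgg, hgm, show h * m * (w : G) * (h * m)⁻¹ = h * (m * (w : G) * m⁻¹) * h⁻¹ by group,
        (mem_cz.1 hm).eq, mul_inv_cancel_right]
    by_cases hh1 : h = 1
    · rw [← hhw, hh1, one_mul, inv_one, mul_one]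
    exfalso
    have he_w : e * (w : G) * e⁻¹ = w := by
      rw [← (mem_cz.1 w.2.1).eq, mul_inv_cancel_right]
    have he_w' : e * (w' : G) * e⁻¹ = w' := by
      rw [← (mem_cz.1 w'.2.1).eq, mul_inv_cancel_right]
    set h' := e * h * e⁻¹ with hh'
    have hh'H : h' ∈ H := (mem_normalizer_iff.1 heN h).1 hh
    have h1 : h' * (w : G) * h'⁻¹ = w' := by
      rw [hh']
      calc e * h * e⁻¹ * (w : G) * (e * h * e⁻¹)⁻¹
          = e * h * e⁻¹ * (e * (w : G) * e⁻¹) * (e * h * e⁻¹)⁻¹ := by rw [he_w]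
        _ = e * (h * (w : G) * h⁻¹) * e⁻¹ := by group
        _ = w' := by rw [hhw, he_w']
    have h2 : Commute (h⁻¹ * h') (w : G) := by
      have h3 : h' * (w : G) = h * (w : G) * h⁻¹ * h' := by rw [hhw, ← h1]; group
      show h⁻¹ * h' * (w : G) = (w : G) * (h⁻¹ * h')
      rw [mul_assoc h⁻¹, h3]
      group
    by_cases h4 : h⁻¹ * h' = 1
    · have h5 : e * h * e⁻¹ = h := (inv_mul_eq_one.1 h4).symm
      exact heH (hCC.mem_of_commute hh hh1 (mul_inv_eq_iff_eq_mul.1 h5))
    · have hwH := hCC.mem_of_commute (H.mul_mem (H.inv_mem hh) hh'H) h4 h2.symm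
      obtain ⟨j, hj⟩ := (IsQ.of_mem (Components.isPGroup_pCore s) w.2.2).orderOf_eq hs
      exact hsa ((dvd_pow_self s fun h0 => hw1 (orderOf_eq_one_iff.1 (by rw [hj, h0, pow_zero]))).trans
        (hj ▸ hHcard ▸ Subgroup.orderOf_dvd_natCard H hwH))
  exact absurd hlt (not_lt.2 (Nat.card_le_card_of_injective f hinj))

end Rank3

end Cfsg.Agent.H86.ClassSizes
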