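import Cfsg.Agent.H86.ClassSizes.Data

/-!
# The radical contains an element of class size `b` or `c`

If some core has a central Sylow element of class size `b` or `c`, the group is solvable.
-/

set_option autoImplicit false
set_option linter.style.haveILetI false
set_option linter.unusedSectionVars false

namespace Cfsg.Agent.H86.ClassSizes

open Subgroup
open Cfsg.Agent.Hall.TwoSizes (IsQ)

universe u

variable {G : Type u} [Group G] [Finite G]

theorem exists_isQ_not_mem_rad (hns : ¬ Group.IsSolvable G) (r : ℕ) [Fact r.Prime] :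
    ∃ q : ℕ, q.Prime ∧ q ≠ r ∧ ∃ x : G, IsQ q x ∧ x ∉ Rad G := by
  by_contra hcon
  push Not at hcon
  obtain ⟨P⟩ : Nonempty (Sylow r G) := inferInstance
  have hn : (P : Subgroup G) ≤ normalizer (Rad G : Set G) := fun g _ =>
    (normalizer_eq_top_iff.2 (rad_normal (G := G))) ▸ mem_top g
  haveI : Group.IsNilpotent ↥(P : Subgroup G) := P.2.isNilpotent
  have hs := H40.isSolvable_sup hn isSolvable_rad (inferInstance : Group.IsSolvable ↥(P : Subgroup G))
  have htop : Rad G ⊔ (P : Subgroup G) = ⊤ := by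
    refine Components.eq_top_of_forall_sylow _ fun q hq => ?_
    by_cases hqr : q = r
    · subst hqr
      exact ⟨P, le_sup_right⟩
    · obtain ⟨Q⟩ : Nonempty (Sylow q G) := inferInstance
      exact ⟨Q, fun x hx => mem_sup_left (hcon q hq.out hqr x (IsQ.of_mem Q.2 hx))⟩
  rw [htop] at hs
  haveI := hs
  exact hns (Group.isSolvable_of_surjective (f := (⊤ : Subgroup G).subtype) fun g => ⟨⟨g, mem_top g⟩, rfl⟩)

namespace Rank3

variable {a b c : ℕ} (D : Rank3 G a b c) {r : ℕ} [Fact r.Prime] {v : G}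
include D

/-- The class size of a central Sylow element of a core is not `b`. -/
theorem false_core_b (hv : v ∈ Cfsg.pCore r G) (hvr : orderOf v = r) (hr : ¬ r ∣ sz v)
    (hvb : sz v = b) : False := by
  have hne : Cfsg.pCore r G ≠ ⊥ := fun e =>
    ne_one_of_orderOf_prime Fact.out hvr (mem_bot.1 (e ▸ hv))
  have hall : ∀ x : G, x ∉ Rad G → sz x = c := fun x hx => by
    have hd := D.dvd_sz_of_not_mem_rad hne hx
    rcases D.cases x (fun e => hx (e ▸ one_mem _)) with e | e | e
    · exact absurd ((e ▸ hd).trans (hvb ▸ D.dvd)) hr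
    · exact absurd (e ▸ hd) (hvb ▸ hr)
    · exact e
  obtain ⟨y, -, hy⟩ := D.exists_a
  have hle : cz y ≤ Rad G := fun x hx => by
    by_contra hxR
    exact hxR (D.mem_rad_of_commute hy (hall x hxR) (mem_cz.1 hx).symm).2
  have hd : (Rad G).index ∣ a := hy ▸ index_dvd_of_le hle
  obtain ⟨x, -, hx⟩ := SetLike.exists_of_lt (lt_top_iff_ne_top.2 D.rad_ne_top)
  refine hx (mem_rad_of_coprime_index ?_)
  rw [hall x hx]
  exact (D.cop.coprime_dvd_left hd).symm

/-- If `a` is a power of `r` the configuration is impossible. -/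
theorem false_of_a_primePow (hv : v ∈ Cfsg.pCore r G) (hvr : orderOf v = r) (hr : ¬ r ∣ c)
    (hvc : sz v = c) {i : ℕ} (hai : a = r ^ i) {s : ℕ} (hs : s.Prime) (hsr : s ≠ r) {y : G}
    (hy : IsQ s y) (hya : sz y = a) : False := by
  classical
  have hrp : r.Prime := Fact.out
  have hne : Cfsg.pCore r G ≠ ⊥ := fun e => ne_one_of_orderOf_prime hrp hvr (mem_bot.1 (e ▸ hv))
  have haR : ∀ x : G, sz x = a → x ∈ Rad G := fun x hx =>
    mem_rad_of_sz_primePow hrp ((hx.trans hai).dvd)
  have hnotc : ∀ x : G, x ∉ Rad G → sz x = b := fun x hx => by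
    rcases D.cases x (fun e => hx (e ▸ one_mem _)) with e | e | e
    · exact absurd (haR x e) hx
    · exact e
    · exact absurd (e ▸ D.dvd_sz_of_not_mem_rad hne hx) hr
  have hcore : ∀ t : ℕ, t.Prime → t ≠ r → Cfsg.pCore t G = ⊥ := by
    intro t ht htr
    haveI : Fact t.Prime := ⟨ht⟩
    by_contra h
    obtain ⟨w, hw, hwt, hwd⟩ := D.exists_core_central h
    have hco : (orderOf w).Coprime (orderOf v) := by
      rw [hwt, hvr]; exact (Nat.coprime_primes ht hrp).2 htr
    have hcm : Commute w v := Subgroup.commute_of_normal_of_disjoint _ _ inferInstance inferInstance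
      (IsPGroup.disjoint_of_ne t r htr _ _ (Components.isPGroup_pCore t) (Components.isPGroup_pCore r))
      w v hw hv
    rcases D.cases w (ne_one_of_orderOf_prime ht hwt) with e | e | e
    · exact D.not_commute e hvc hco hcm
    · exact D.false_core_b hw hwt hwd e
    · by_cases hts : s = t
      · obtain rfl := hts
        -- an `s`-element of size `a` and an `r`-element of size `c`
        exact hwd (e ▸ D.dvd_of_sz_c hs hrp hsr hy hya (isQ_of_orderOf hvr) hvc)
      · have h1 := D.dvd_of_sz_a hs ht hts hy hya (isQ_of_orderOf hwt) e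
        rw [hai] at h1
        exact htr ((Nat.prime_dvd_prime_iff_eq ht hrp).1 (ht.dvd_of_dvd_pow h1))
  have hF : Cfsg.fittingSubgroup G ≤ Cfsg.pCore r G := by
    rw [Components.fitting_eq_iSup_pCore]
    refine iSup_le fun p => ?_
    by_cases hp : (p : ℕ) = r
    · rw [hp]
    · rw [hcore p (Nat.prime_of_mem_primeFactors p.2) hp]
      exact bot_le
  obtain ⟨g, hg, hgR⟩ : ∃ g : G, IsQ r g ∧ g ∉ Rad G := by
    by_contra hcon
    push Not at hcon
    obtain ⟨P⟩ : Nonempty (Sylow r G) := inferInstance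
    have hle : (P : Subgroup G) ≤ Rad G := fun g hg => hcon g (IsQ.of_mem P.2 hg)
    have htop : (cz y ⊔ Rad G).index = 1 := by
      refine Nat.eq_one_of_dvd_coprimes (k := (cz y ⊔ Rad G).index) ?_
        ((index_dvd_of_le le_sup_left).trans (hya.trans hai).dvd) (index_dvd_of_le le_sup_right)
      exact Nat.Coprime.pow_left i (hrp.coprime_iff_not_dvd.2 fun hd =>
        P.not_dvd_index (hd.trans (index_dvd_of_le hle)))
    have hn : cz y ≤ normalizer (Rad G : Set G) := fun g _ =>
      (normalizer_eq_top_iff.2 (rad_normal (G := G))) ▸ mem_top g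
    have hs' := H40.isSolvable_sup hn isSolvable_rad (D.isSolvable_cz (fun e => by
      have := sz_eq_one_iff.2 (e ▸ one_mem (center G) : y ∈ center G)
      have := D.one_lt_a
      omega))
    rw [sup_comm, index_eq_one.1 htop] at hs'
    haveI := hs'
    exact D.hns (Group.isSolvable_of_surjective (f := (⊤ : Subgroup G).subtype)
      fun g => ⟨⟨g, mem_top g⟩, rfl⟩)
  have hgb := hnotc g hgR
  have hg1 : g ≠ 1 := fun e => hgR (e ▸ one_mem _)
  -- the centraliser of `g` is an `r`-group
  have hgr : ∀ (q : ℕ), q.Prime → q ≠ r → ∀ w : G, IsQ q w → Commute g w → w = 1 := by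
    intro q hq hqr w hw hgw
    by_contra hw1
    have hco : (orderOf g).Coprime (orderOf w) := hg.coprime hrp hq (Ne.symm hqr) hw
    have hne1 : g * w ≠ 1 := fun e => hg1 (by
      have h := mem_zpowers_mul hgw hco
      rwa [e, zpowers_one_eq_bot, mem_bot] at h)
    have hb : sz (g * w) = b := D.eq_b hne1 (hgb ▸ sz_dvd_of_le (cz_mul_le_left hgw hco))
    have hle : cz g ≤ cz w :=
      (cz_eq_of_le (cz_mul_le_left hgw hco) (hb.trans hgb.symm).dvd) ▸ cz_mul_le_right hgw hco
    have hwX : w ∈ Cfsg.fittingSubgroup G := D.mem_fitting hne fun t ht htne => by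
      by_cases htr : t = r
      · rw [htr]
        exact mem_centralizer_of_cz_le (Components.isPGroup_pCore r) hg (hw.coprime_prime hq hrp hqr) hle
      · exact absurd (hcore t ht htr) htne
    obtain ⟨k, hk⟩ := IsQ.of_mem (Components.isPGroup_pCore r) (hF hwX)
    exact hw1 (hw.eq_one hq hrp hqr hk)
  obtain ⟨q, hq, hqr, x, hx, hxR⟩ := exists_isQ_not_mem_rad D.hns r
  haveI : Fact q.Prime := ⟨hq⟩
  have hx1 : x ≠ 1 := fun e => hxR (e ▸ one_mem _)
  have hcard : Nat.card ↥(cz x) = Nat.card ↥(cz g) := by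
    have h1 := (cz x).card_mul_index
    have h2 := (cz g).card_mul_index
    rw [show (cz x).index = b from hnotc x hxR] at h1
    rw [show (cz g).index = b from hgb, ← h1] at h2
    exact (Nat.eq_of_mul_eq_mul_right D.b_pos h2).symm
  have hd : q ∣ Nat.card ↥(cz g) := by
    rw [← hcard]
    obtain ⟨j, hj⟩ := hx.orderOf_eq hq
    refine dvd_trans ?_ (Subgroup.orderOf_dvd_natCard (cz x) (mem_cz.2 (Commute.refl x)))
    rw [hj]
    exact dvd_pow_self q fun h0 => hx1 (orderOf_eq_one_iff.1 (by rw [hj, h0, pow_zero]))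
  obtain ⟨w, hw⟩ := exists_prime_orderOf_dvd_card' q hd
  rw [← Subgroup.orderOf_coe] at hw
  exact ne_one_of_orderOf_prime hq hw (hgr q hq hqr w (isQ_of_orderOf hw) (mem_cz.1 w.2).symm)

/-- If the central element of the core has size `c`, centralisers of size `a` or `b` avoid `r`. -/
theorem sz_eq_c_of_dvd_card (hv : v ∈ Cfsg.pCore r G) (hvr : orderOf v = r) (hr : ¬ r ∣ c)
    (hvc : sz v = c) {x : G} (hx : x ≠ 1) (hd : r ∣ Nat.card ↥(cz x)) : sz x = c := by
  classical
  have hrp : r.Prime := Fact.out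
  have hne : Cfsg.pCore r G ≠ ⊥ := fun e => ne_one_of_orderOf_prime hrp hvr (mem_bot.1 (e ▸ hv))
  -- an element of size `a` of prime order different from `r`
  obtain ⟨s, hs, hsr, y, hys, hya⟩ : ∃ s : ℕ, s.Prime ∧ s ≠ r ∧ ∃ y : G, orderOf y = s ∧ sz y = a := by
    by_contra hcon
    push Not at hcon
    obtain ⟨s, hs, y, hys, hya⟩ := D.exists_prime_a
    have hsr : s = r := by_contra fun h => hcon s hs h y hys hya
    subst hsr
    have hb : ∀ q : ℕ, q.Prime → q ∣ b → q = s := fun q hq hqb => by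
      haveI : Fact q.Prime := ⟨hq⟩
      by_contra hqs
      obtain ⟨P⟩ : Nonempty (Sylow q G) := inferInstance
      obtain ⟨z, -, hz, hzc⟩ := exists_central P (hqb.trans D.dvd_card_b)
      rcases D.cases z (ne_one_of_orderOf_prime hq hz) with e | e | e
      · exact hcon q hq hqs z hz e
      · exact not_dvd_sz hzc (e ▸ hqb)
      · exact hr (D.dvd_of_sz_c hs hq (Ne.symm hqs) (isQ_of_orderOf hys) hya (isQ_of_orderOf hz) e)
    obtain ⟨q, -, -, w, -, hwR⟩ := exists_isQ_not_mem_rad D.hns s
    have hbk : b = s ^ b.primeFactorsList.length :=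
      Nat.eq_prime_pow_of_unique_prime_dvd D.b_pos.ne' fun {d} hd hdb => hb d hd hdb
    refine hwR (mem_rad_of_sz_primePow hs (k := b.primeFactorsList.length) (hbk ▸ ?_))
    rcases D.cases w (fun e => hwR (e ▸ one_mem _)) with e | e | e
    · exact e ▸ D.dvd
    · exact e.dvd
    · exact absurd (e ▸ D.dvd_sz_of_not_mem_rad hne hwR) hr
  have hyQ := isQ_of_orderOf hys
  have hy1 := ne_one_of_orderOf_prime hs hys
  -- no `r`-element commutes with `y`
  have hK : ¬ r ∣ Nat.card ↥(cz y) := by
    intro hd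
    obtain ⟨w, hw⟩ := exists_prime_orderOf_dvd_card' r hd
    rw [← Subgroup.orderOf_coe] at hw
    have hwQ := isQ_of_orderOf hw
    have hc : Commute (w : G) y := mem_cz.1 w.2
    have hco : (orderOf (w : G)).Coprime (orderOf y) := hwQ.coprime hrp hs (Ne.symm hsr) hyQ
    have hne1 : (w : G) * y ≠ 1 := fun e => hy1 (by
      have h := mem_zpowers_mul hc.symm hco.symm
      rw [← hc.eq, e, zpowers_one_eq_bot, mem_bot] at h
      exact h)
    have hexcl : ∀ m, sz ((w : G) * y) = m → sz (w : G) = m → False := fun m h1 h2 => by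
      have hle : cz (w : G) ≤ cz y :=
        (cz_eq_of_le (cz_mul_le_left hc hco) (h1.trans h2.symm).dvd) ▸ cz_mul_le_right hc hco
      have h3 := mem_centralizer_of_cz_le (Components.isPGroup_pCore r) hwQ
        (hyQ.coprime_prime hs hrp hsr) hle
      exact D.not_commute hya hvc (hyQ.coprime hs hrp hsr (isQ_of_orderOf hvr))
        (mem_centralizer_iff.1 h3 v hv).symm
    have hw1 := ne_one_of_orderOf_prime hrp hw
    rcases D.cases _ hw1 with e | e | e
    · rcases D.of_a_dvd hne1 (hya ▸ sz_dvd_of_le (cz_mul_le_right hc hco)) with e' | e'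
      · exact hexcl a e' e
      · have hq : ∀ q : ℕ, q.Prime → q ∣ a → q = r := fun q hq hqa => by
          haveI : Fact q.Prime := ⟨hq⟩
          by_contra hqr
          obtain ⟨P⟩ : Nonempty (Sylow q G) := inferInstance
          obtain ⟨z, -, hz, hzc⟩ := exists_central P (hqa.trans D.dvd_card_a)
          rcases D.cases z (ne_one_of_orderOf_prime hq hz) with e'' | e'' | e''
          · exact not_dvd_sz hzc (e'' ▸ hqa)
          · exact not_dvd_sz hzc (e'' ▸ hqa.trans D.dvd)
          · exact hr (D.dvd_of_sz_c hrp hq (Ne.symm hqr) hwQ e (isQ_of_orderOf hz) e'')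
        have hak : a = r ^ a.primeFactorsList.length :=
          Nat.eq_prime_pow_of_unique_prime_dvd (by have := D.one_lt_a; omega)
            fun {d} hd hda => hq d hd hda
        exact D.false_of_a_primePow hv hvr hr hvc hak hs hsr hyQ hya
    · exact hexcl b (D.eq_b hne1 (e ▸ sz_dvd_of_le (cz_mul_le_left hc hco))) e
    · exact D.not_commute hya e hco.symm hc.symm
  rcases D.cases x hx with e | e | e
  swap
  · refine absurd (hd.trans ?_) hK
    obtain ⟨d, hbd⟩ := D.dvd
    have h1 := (cz x).card_mul_index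
    have h2 := (cz y).card_mul_index
    rw [show (cz x).index = b from e, hbd, mul_comm a d, ← mul_assoc] at h1
    rw [show (cz y).index = a from hya, ← h1] at h2
    exact ⟨d, Nat.eq_of_mul_eq_mul_right (by have := D.one_lt_a; omega) h2⟩
  · refine absurd ?_ hK
    have h1 := (cz x).card_mul_index
    have h2 := (cz y).card_mul_index
    rw [show (cz x).index = a from e] at h1
    rw [show (cz y).index = a from hya, ← h1] at h2
    rwa [Nat.eq_of_mul_eq_mul_right (by have := D.one_lt_a; omega) h2]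
  · exact e

/-- The class size of a central Sylow element of a core is not `c`. -/
theorem false_core_c (hv : v ∈ Cfsg.pCore r G) (hvr : orderOf v = r) (hr : ¬ r ∣ c)
    (hvc : sz v = c) : False := by
  classical
  have hrp : r.Prime := Fact.out
  have hne : Cfsg.pCore r G ≠ ⊥ := fun e => ne_one_of_orderOf_prime hrp hvr (mem_bot.1 (e ▸ hv))
  have hv1 := ne_one_of_orderOf_prime hrp hvr
  set F := Cfsg.fittingSubgroup G with hF
  have hrd : ∀ {x : G}, Commute v x → r ∣ Nat.card ↥(cz x) := fun {x} h =>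
    hvr ▸ Subgroup.orderOf_dvd_natCard (cz x) (mem_cz.2 h)
  have hcore : ∀ t : ℕ, t.Prime → Cfsg.pCore t G ≠ ⊥ → ¬ t ∣ c := by
    intro t ht htne
    haveI : Fact t.Prime := ⟨ht⟩
    by_cases htr : t = r
    · rwa [htr]
    obtain ⟨w, hw, hwt, hwd⟩ := D.exists_core_central htne
    have hcm : Commute v w := Subgroup.commute_of_normal_of_disjoint _ _ inferInstance inferInstance
      (IsPGroup.disjoint_of_ne r t (Ne.symm htr) _ _ (Components.isPGroup_pCore r)
        (Components.isPGroup_pCore t)) v w hv hw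
    exact D.sz_eq_c_of_dvd_card hv hvr hr hvc (ne_one_of_orderOf_prime ht hwt) (hrd hcm) ▸ hwd
  have hcF : ∀ x : G, sz x = c → x ∈ F ∧ F ≤ cz x := by
    intro x hx
    have hcen : ∀ t : ℕ, t.Prime → Cfsg.pCore t G ≠ ⊥ →
        x ∈ centralizer (Cfsg.pCore t G : Set G) := fun t ht htne => by
      haveI : Fact t.Prime := ⟨ht⟩
      exact D.mem_centralizer_core (hx.symm ▸ hcore t ht htne)
    refine ⟨D.mem_fitting hne hcen, ?_⟩
    rw [hF, Components.fitting_eq_iSup_pCore]
    refine iSup_le fun p u hu => ?_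
    by_cases hb : Cfsg.pCore (p : ℕ) G = ⊥
    · rw [hb, mem_bot] at hu
      subst hu
      exact one_mem _
    · exact mem_cz.2 (mem_centralizer_iff.1 (hcen p (Nat.prime_of_mem_primeFactors p.2) hb) u hu)
  have hFv : F ≤ cz v := (hcF v hvc).2
  have hvF : cz v ≤ F := le_of_forall_isQ fun q hq w hw hwQ => by
    by_cases hw1 : w = 1
    · exact hw1 ▸ one_mem _
    exact (hcF w (D.sz_eq_c_of_dvd_card hv hvr hr hvc hw1 (hrd (mem_cz.1 hw).symm))).1
  have hHF : cz v = F := le_antisymm hvF hFv
  have hFc : ∀ f ∈ F, f ≠ 1 → cz f = F := fun f hf hf1 => by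
    have hfc := D.sz_eq_c_of_dvd_card hv hvr hr hvc hf1 (hrd (mem_cz.1 (hFv hf)).symm)
    have hle : cz v ≤ cz f := hHF.le.trans (hcF f hfc).2
    exact (cz_eq_of_le hle (hvc.trans hfc.symm).dvd).symm.trans hHF
  obtain ⟨y, hy1, hya⟩ := D.exists_a
  have hyF : y ∉ F := fun h => by
    have h1 : cz y = cz v := (hFc y h hy1).trans hHF.symm
    have h2 : sz y = sz v := congrArg Subgroup.index h1
    exact D.ne_ac (hya.symm.trans (h2.trans hvc))
  set K := cz y with hK
  haveI : F.Normal := Components.fitting_normal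
  have hFidx : F.index = c := by rw [← hHF]; exact hvc
  have hmul : ∀ g : G, ∃ f ∈ F, ∃ k ∈ K, g = f * k := fun g =>
    exists_mul_of_coprime_index (by rw [hFidx, show K.index = a from hya]; exact D.cop.symm) g
  have hdisj : ∀ f ∈ F, f ∈ K → f = 1 := fun f hf hfK => by
    by_contra hf1
    exact hyF (hFc f hf hf1 ▸ mem_cz.2 (mem_cz.1 hfK).symm : y ∈ F)
  have hcz : ∀ k ∈ K, k ≠ 1 → cz k ≤ K := by
    intro k hk hk1 g hg
    obtain ⟨f, hf, k', hk', rfl⟩ := hmul g
    have h1 : f * k' * k = k * (f * k') := (mem_cz.1 hg).eq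
    have h2 : (k * f * k⁻¹)⁻¹ * f = k * k' * (k' * k)⁻¹ := by
      calc (k * f * k⁻¹)⁻¹ * f = k * f⁻¹ * k⁻¹ * (f * k' * k) * (k' * k)⁻¹ := by group
        _ = k * f⁻¹ * k⁻¹ * (k * (f * k')) * (k' * k)⁻¹ := by rw [h1]
        _ = k * k' * (k' * k)⁻¹ := by group
    have h3 : (k * f * k⁻¹)⁻¹ * f = 1 := hdisj _
      (F.mul_mem (F.inv_mem ((inferInstance : F.Normal).conj_mem f hf k)) hf)
      (by rw [h2]; exact K.mul_mem (K.mul_mem hk hk') (K.inv_mem (K.mul_mem hk' hk)))
    have hf1 : f = 1 := by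
      by_contra hf1
      have hkf : Commute k f := by
        have h4 := inv_mul_eq_one.1 h3
        exact mul_inv_eq_iff_eq_mul.1 h4
      have hkF : k ∈ F := hFc f hf hf1 ▸ mem_cz.2 hkf
      exact hk1 (hdisj k hkF hk)
    rw [hf1, one_mul]
    exact hk'
  have hKs : Group.IsSolvable ↥K := by
    refine isSolvable_of_two_regular Nat.prime_two (m := b / a) fun w _ => ?_
    by_cases hw1 : w = 1
    · exact Or.inl (sz_eq_one_iff.2 (hw1 ▸ one_mem _))
    have hw1' : (w : G) ≠ 1 := fun e => hw1 (Subtype.ext e)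
    have hmap : cz w = (cz (w : G)).subgroupOf K := by
      ext v'
      rw [mem_subgroupOf, mem_cz, mem_cz]
      exact ⟨fun h => congrArg Subtype.val h.eq, fun h => Subtype.ext h.eq⟩
    have h1 : sz w * a = sz (w : G) := by
      show (cz w).index * a = (cz (w : G)).index
      rw [hmap, ← hya]
      exact relIndex_mul_index (hcz w w.2 hw1')
    rcases D.of_a_dvd hw1' ⟨sz w, by rw [← h1, mul_comm]⟩ with e | e
    · exact Or.inl ((Nat.mul_eq_right (by have := D.one_lt_a; omega)).1 (h1.trans e))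
    · exact Or.inr (Nat.eq_div_of_mul_eq_left (by have := D.one_lt_a; omega) (h1.trans e))
  refine D.rad_ne_top (top_le_iff.1 ?_)
  have htop : F ⊔ K = ⊤ := top_le_iff.1 fun g _ => by
    obtain ⟨f, hf, k, hk, rfl⟩ := hmul g
    exact mul_mem (mem_sup_left hf) (mem_sup_right hk)
  have hn : K ≤ normalizer (F : Set G) := fun g _ =>
    (normalizer_eq_top_iff.2 (inferInstance : F.Normal)) ▸ mem_top g
  haveI : Group.IsNilpotent ↥F := Components.fitting_isNilpotent
  have hs := H40.isSolvable_sup hn (inferInstance : Group.IsSolvable ↥F) hKs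
  rw [htop] at hs
  exact le_rad inferInstance hs

end Rank3

end Cfsg.Agent.H86.ClassSizes
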