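import Cfsg.Agent.H86.ClassSizes.Basic
import Cfsg.Agent.S4033
import Cfsg.Agent.S4034
import Cfsg.Agent.S0144

/-!
# Groups whose p-regular elements have at most two class sizes

Such groups are solvable, and the non-central size is rather restricted.
-/

set_option autoImplicit false
set_option linter.style.haveILetI false

namespace Cfsg.Agent.H86.ClassSizes

open Subgroup
open Cfsg.Agent.Hall.TwoSizes (IsQ)

universe u

variable {G : Type u} [Group G] [Finite G]

/-- Either all `p`-regular elements are central, or an abelian `p`-complement exists and the second size is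
a power of `p`, or everything outside two primes is central and the second size involves only those primes. -/
theorem two_regular_cases {p : ℕ} (hp : p.Prime) {m : ℕ}
    (h : ∀ x : G, (orderOf x).Coprime p → sz x = 1 ∨ sz x = m) :
    (∀ x : G, (orderOf x).Coprime p → x ∈ center G) ∨
    ((∀ x : G, (orderOf x).Coprime p → ∃ k : ℕ, sz x = p ^ k) ∧ ∃ k : ℕ, m = p ^ k) ∨
    (∃ (q : ℕ) (N : Subgroup G) (i j : ℕ), q.Prime ∧ N.Normal ∧ Nat.card ↥N = p ^ i * q ^ j ∧ m ∣ p ^ i * q ^ j ∧
      (∀ g : G, ∃ n ∈ N, ∃ z ∈ center G, g = n * z) ∧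
      ∀ l : ℕ, l.Prime → l ≠ p → l ≠ q → ∀ x : G, IsQ l x → x ∈ center G) := by
  classical
  by_cases hc : ∀ x : G, (orderOf x).Coprime p → x ∈ center G
  · exact Or.inl hc
  push Not at hc
  obtain ⟨x₀, hx₀, hx₀c⟩ := hc
  have hm : sz x₀ = m := (h x₀ hx₀).resolve_left fun e => hx₀c (sz_eq_one_iff.1 e)
  have hne : (1 : ℕ) ≠ m := fun e => hx₀c (sz_eq_one_iff.1 (hm.trans e.symm))
  have hrange : Set.range (fun x : {x : G // (orderOf x).Coprime p} =>
      (ConjClasses.mk (x : G)).carrier.ncard) = {1, m} := by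
    ext n
    simp only [Set.mem_range, H75.ncard_carrier, Set.mem_insert_iff, Set.mem_singleton_iff]
    constructor
    · rintro ⟨⟨x, hx⟩, rfl⟩
      exact h x hx
    · rintro (rfl | rfl)
      · exact ⟨⟨1, by simp⟩, sz_eq_one_iff.2 (one_mem _)⟩
      · exact ⟨⟨x₀, hx₀⟩, hm⟩
  have h2 : Set.ncard (Set.range fun x : {x : G // (orderOf x).Coprime p} =>
      (ConjClasses.mk (x : G)).carrier.ncard) = 2 := by
    rw [hrange, Set.ncard_pair hne]
  rcases S4033.result hp h2 with hA | ⟨q, hq, P, Q, A, hqp, hA, hcard, hn, hinf, hsup⟩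
  · refine Or.inr (Or.inl ?_)
    have hall : ∀ x : G, (orderOf x).Coprime p → ∃ k : ℕ, sz x = p ^ k := fun x hx => by
      obtain ⟨k, hk⟩ := (S4034.result hp).2 hA x hx
      exact ⟨k, by rwa [H75.ncard_carrier] at hk⟩
    obtain ⟨k, hk⟩ := hall x₀ hx₀
    exact ⟨hall, k, hm.symm.trans hk⟩
  · haveI := hn
    haveI : Fact p.Prime := ⟨hp⟩
    set N := (P : Subgroup G) ⊔ (Q : Subgroup G) with hN
    obtain ⟨i, hi⟩ := IsPGroup.iff_card.1 P.2
    obtain ⟨j, hj⟩ := IsPGroup.iff_card.1 Q.2
    rw [hi, hj] at hcard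
    have hmul : ∀ g : G, ∃ n ∈ N, ∃ z ∈ A, g = n * z := fun g => by
      have hg : g ∈ ((N ⊔ A : Subgroup G) : Set G) := by rw [hsup]; exact mem_top g
      rw [Subgroup.normal_mul] at hg
      obtain ⟨n, hn', z, hz, e⟩ := hg
      exact ⟨n, hn', z, hz, e.symm⟩
    have hidx : A.index = Nat.card ↥N := by
      have hcompl : N.IsComplement' A :=
        isComplement'_of_disjoint_and_mul_eq_univ (disjoint_iff.2 hinf)
          (by rw [← Subgroup.normal_mul, hsup, coe_top])
      have h1 := hcompl.card_mul_card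
      have h2 := A.card_mul_index
      rw [← h1, mul_comm (Nat.card ↥N)] at h2
      exact Nat.eq_of_mul_eq_mul_left Nat.card_pos h2
    refine Or.inr (Or.inr ⟨q, N, i, j, hq.out, hn, hcard, ?_, fun g => ?_, fun l hl hlp hlq x hx => ?_⟩)
    · rw [← hm, ← hcard, ← hidx]
      exact index_dvd_of_le fun z hz => mem_cz.2 (mem_center_iff.1 (hA hz) x₀).symm
    · obtain ⟨n, hn', z, hz, e⟩ := hmul g
      exact ⟨n, hn', z, hA hz, e⟩
    · obtain ⟨n, hn', z, hz, rfl⟩ := hmul x
      obtain ⟨k, hk⟩ := hx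
      have hc' : Commute n z := mem_center_iff.1 (hA hz) n
      rw [hc'.mul_pow] at hk
      have hn1 : n ^ l ^ k = 1 := by
        have hm' : n ^ l ^ k ∈ N ⊓ A := ⟨pow_mem hn' _, by
          rw [eq_inv_of_mul_eq_one_left hk]; exact A.inv_mem (pow_mem hz _)⟩
        rwa [hinf, mem_bot] at hm'
      have hn0 : n = 1 := by
        refine orderOf_eq_one_iff.1 (Nat.eq_one_of_dvd_coprimes ?_
          (hcard ▸ Subgroup.orderOf_dvd_natCard N hn') (orderOf_dvd_of_pow_eq_one hn1))
        exact Nat.Coprime.pow_right k (Nat.Coprime.mul_left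
          (((Nat.coprime_primes hp hl).2 (Ne.symm hlp)).pow_left i)
          (((Nat.coprime_primes hq.out hl).2 (Ne.symm hlq)).pow_left j))
      rw [hn0, one_mul]
      exact hA hz

/-- A group whose `p`-regular elements have at most two class sizes is solvable. -/
theorem isSolvable_of_two_regular {p : ℕ} (hp : p.Prime) {m : ℕ}
    (h : ∀ x : G, (orderOf x).Coprime p → sz x = 1 ∨ sz x = m) : Group.IsSolvable G := by
  haveI : Fact p.Prime := ⟨hp⟩
  haveI := isSolvable_rad (G := G)
  have hZs : Group.IsSolvable ↥(center G) := Group.isSolvable_of_comm fun a b =>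
    Subtype.ext (mem_center_iff.1 b.2 a)
  refine (Group.isSolvable_iff_subgroup_quotient (Rad G)).2 ⟨inferInstance, ?_⟩
  have hquot : (∀ x : G, (orderOf x).Coprime p → x ∈ Rad G) → Group.IsSolvable (G ⧸ Rad G) := by
    intro hall
    have hP : IsPGroup p (G ⧸ Rad G) := fun v => by
      induction v using QuotientGroup.induction_on with | _ g => ?_
      obtain ⟨k, hk⟩ : ∃ k, (orderOf (g ^ p ^ k)).Coprime p := by
        obtain ⟨e, j, hj, hnj⟩ := Nat.exists_eq_pow_mul_and_not_dvd (orderOf_pos g).ne' p hp.ne_one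
        refine ⟨e, ?_⟩
        rw [orderOf_pow, hnj, Nat.gcd_eq_right (dvd_mul_right _ _),
          Nat.mul_div_cancel_left _ (pow_pos hp.pos _)]
        exact (hp.coprime_iff_not_dvd.2 hj).symm
      exact ⟨k, (QuotientGroup.eq_one_iff _).2 (hall _ hk)⟩
    haveI := hP.isNilpotent
    infer_instance
  rcases two_regular_cases hp h with hc | ⟨hall, -⟩ | ⟨q, N, i, j, hq, hN, hcard, -, hmul, -⟩
  · exact hquot fun x hx => le_rad inferInstance hZs (hc x hx)
  · refine hquot fun x hx => ?_
    obtain ⟨k, hk⟩ := hall x hx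
    exact mem_rad_of_sz_primePow hp hk.dvd
  · haveI := hN
    have hs : Group.IsSolvable ↥N := S0144.result p q i j hp hq hcard
    have htop : Rad G = ⊤ := top_le_iff.1 fun g _ => by
      obtain ⟨n, hn, z, hz, rfl⟩ := hmul g
      exact mul_mem (le_rad hN hs hn) (le_rad inferInstance hZs hz)
    haveI : Subsingleton (G ⧸ Rad G) := QuotientGroup.subsingleton_iff.2 htop
    infer_instance

end Cfsg.Agent.H86.ClassSizes
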